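import Mathlib
import Cfsg.Agent.Lib.Helper10.SWDefs

/-!
Piece [WC] of S3685 (Sims–Wong): the swing; commutators are central in `x (n - 1)`, and `n = 2`.
-/

set_option autoImplicit false

namespace Cfsg.Agent.Lib.Helper72.SWWC

open Cfsg.Agent.Lib.Helper10.SWDefs Pointwise

universe u

theorem part1 (hWA : StWA.{u}) {G : Type u} [Group G] [Finite G] (H : Subgroup G) (hB : Base H)
    (hZ : ZF H) (Ps Ys : Subgroup G) (hO : Orient H Ps Ys) (hA : PropA H Ps Ys)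
    (x : ℕ → Subgroup G) (k : ℕ) (hM : MinBad H x (k + 2)) :
    ∀ u ∈ Zs (x 0), ∀ z ∈ Zs (x (k + 2)), ∀ p ∈ x (k + 1),
      p * (u * z * u⁻¹ * z⁻¹) = (u * z * u⁻¹ * z⁻¹) * p := by
  obtain ⟨hPs, hYs, hAdj, -⟩ := hO
  obtain ⟨wa, wb, wc, wd, we⟩ := hWA G H hB hZ x (k + 2) hM
  have hPA0 := hA x (k + 2) hM (by omega)
  obtain ⟨hW, hbad, hmin⟩ := hM
  obtain ⟨hpts, hadj⟩ := hW
  have hp0 : IsPt H (x 0) := hpts 0 (by omega)
  have hp1 : IsPt H (x 1) := hpts 1 (by omega)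
  have hpk : IsPt H (x k) := hpts k (by omega)
  have hpk1 : IsPt H (x (k + 1)) := hpts (k + 1) (by omega)
  have hpk2 : IsPt H (x (k + 2)) := hpts (k + 2) (by omega)
  have hadj0 : Adj (x 0) (x 1) := hadj 0 (by omega)
  have hadjk : Adj (x k) (x (k + 1)) := hadj k (by omega)
  have hadjk1 : Adj (x (k + 1)) (x (k + 2)) := hadj (k + 1) (by omega)
  have hl0 : IsLine (x 0) (x 0 ⊓ x 1) := hB.adj_line _ _ hp0 hp1 hadj0
  -- step 1: the point `y`
  obtain ⟨g, hg, hne⟩ : ∃ g : G, MulAut.conj g • Ps = x 0 ∧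
      x 0 ⊓ MulAut.conj g • Ys ≠ x 0 ⊓ x 1 := by
    obtain ⟨g0, hg0⟩ := isPt_trans hPs hp0
    have hadjy : Adj (x 0) (MulAut.conj g0 • Ys) := by
      have := adj_conj g0 hAdj
      rwa [← hg0] at this
    have hy0 : IsPt H (MulAut.conj g0 • Ys) := isPt_conj hYs g0
    have hly : IsLine (x 0) (x 0 ⊓ MulAut.conj g0 • Ys) := hB.adj_line _ _ hp0 hy0 hadjy
    by_cases hc : x 0 ⊓ MulAut.conj g0 • Ys = x 0 ⊓ x 1
    · obtain ⟨S₁, S₂, S₃, h12, h13, h23, hall⟩ := hB.three _ hp0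
      obtain ⟨S', hS', hS'ne⟩ : ∃ S', IsLine (x 0) S' ∧ S' ≠ x 0 ⊓ x 1 := by
        by_cases h : x 0 ⊓ x 1 = S₁
        · exact ⟨S₂, (hall S₂).2 (Or.inr (Or.inl rfl)), by rw [h]; exact h12.symm⟩
        · exact ⟨S₁, (hall S₁).2 (Or.inl rfl), fun h' => h h'.symm⟩
      obtain ⟨p, hp, hpS⟩ := hB.line_conj _ _ _ hp0 hly hS'
      refine ⟨p * g0, ?_, ?_⟩
      · rw [← conj_mul_smul, ← hg0]
        exact Subgroup.conj_smul_eq_self_of_mem hp
      · rw [← conj_mul_smul]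
        have e : x 0 ⊓ MulAut.conj p • MulAut.conj g0 • Ys
            = MulAut.conj p • (x 0 ⊓ MulAut.conj g0 • Ys) := by
          rw [Subgroup.smul_inf, Subgroup.conj_smul_eq_self_of_mem hp]
        rw [e, ← hpS]
        exact hS'ne
    · exact ⟨g0, hg0.symm, hc⟩
  have hy : IsPt H (MulAut.conj g • Ys) := isPt_conj hYs g
  have hadjy : Adj (x 0) (MulAut.conj g • Ys) := by
    have := adj_conj g hAdj
    rwa [hg] at this
  have hPA : ¬ Zs (MulAut.conj g • Ys) ≤ Qs (x (k + 1)) := hPA0 g hg hne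
  obtain ⟨g1, hg1, hg1n⟩ := SetLike.not_le_iff_exists.1 hPA
  -- step 3: the walks `(y, x 0, …, x i)` are not bad
  have hshort : ∀ i, i + 1 < k + 2 → Zs (MulAut.conj g • Ys) ≤ Qs (x i) := by
    intro i hi
    by_contra hcon
    apply hmin (i + 1) hi
    refine ⟨fun j => if j = 0 then MulAut.conj g • Ys else x (j - 1), ⟨?_, ?_⟩, ?_⟩
    · intro j hj
      beta_reduce
      by_cases hj0 : j = 0
      · rw [if_pos hj0]; exact hy
      · rw [if_neg hj0]; exact hpts _ (by omega)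
    · intro j hj
      beta_reduce
      by_cases hj0 : j = 0
      · subst hj0
        rw [if_pos rfl, if_neg (by omega)]
        exact hB.adj_symm _ _ hp0 hy hadjy
      · rw [if_neg hj0, if_neg (by omega)]
        have e : j + 1 - 1 = j - 1 + 1 := by omega
        rw [e]
        exact hadj (j - 1) (by omega)
    · beta_reduce
      rw [if_pos rfl, if_neg (by omega)]
      exact hcon
  have hg1_0 : g1 ∈ Qs (x 0) := hshort 0 (by omega) hg1
  have hg1_k : g1 ∈ Qs (x k) := hshort k (by omega) hg1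
  intro u hu z hz
  obtain ⟨hr0, hrn⟩ := we (by omega) u hu z hz
  have hrn' : u * z * u⁻¹ * z⁻¹ ∈ OZ (x (k + 1) ⊓ x (k + 2)) := hrn
  generalize u * z * u⁻¹ * z⁻¹ = r at hr0 hrn'
  have hcomm : g1 * r = r * g1 := hr0.2.2 g1 (Qs_le_line hl0 hg1_0)
  have hlk : IsLine (x k) (x k ⊓ x (k + 1)) := hB.adj_line _ _ hpk hpk1 hadjk
  have hlk' : IsLine (x (k + 1)) (x k ⊓ x (k + 1)) := by
    have := hB.adj_line _ _ hpk1 hpk (hB.adj_symm _ _ hpk hpk1 hadjk)
    rwa [inf_comm] at this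
  have hlk1 : IsLine (x (k + 1)) (x (k + 1) ⊓ x (k + 2)) := hB.adj_line _ _ hpk1 hpk2 hadjk1
  have hne' : x (k + 1) ⊓ x (k + 2) ≠ x k ⊓ x (k + 1) := fun h => wc k (by omega) h.symm
  obtain ⟨hs1, hs2, hs3⟩ :=
    hB.swap _ _ _ hpk1 hlk' hlk1 hne' g1 (Qs_le_line hlk hg1_k) hg1n
  have hr' : r ∈ OZ (MulAut.conj g1 • (x (k + 1) ⊓ x (k + 2))) := by
    rw [OZ_conj, mem_conj_smul]
    have e : g1⁻¹ * r * g1 = r := by
      rw [mul_assoc, ← hcomm, inv_mul_cancel_left]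
    rw [e]
    exact hrn'
  have hsup := hB.line_sup _ _ _ hpk1 hlk1 hs3 (Ne.symm hs1)
  intro p hp
  rw [← hsup] at hp
  have hle : x (k + 1) ⊓ x (k + 2) ⊔ MulAut.conj g1 • (x (k + 1) ⊓ x (k + 2))
      ≤ Subgroup.centralizer {r} := by
    refine sup_le (fun s hs => ?_) (fun s hs => ?_)
    · rw [Subgroup.mem_centralizer_iff]
      intro h hh
      rw [Set.mem_singleton_iff] at hh
      rw [hh]
      exact (hrn'.2.2 s hs).symm
    · rw [Subgroup.mem_centralizer_iff]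
      intro h hh
      rw [Set.mem_singleton_iff] at hh
      rw [hh]
      exact (hr'.2.2 s hs).symm
  have h3 := hle hp
  rw [Subgroup.mem_centralizer_iff] at h3
  exact (h3 r rfl).symm

theorem main : Cfsg.Agent.Lib.Helper10.SWDefs.StWC.{u} := by
  intro hWA G _ _ H hB hZ Ps Ys hO hA x n hM hn
  obtain ⟨k, rfl⟩ : ∃ k, n = k + 2 := ⟨n - 2, by omega⟩
  have h1 := part1 hWA H hB hZ Ps Ys hO hA x k hM
  refine ⟨h1, ?_⟩
  by_contra hk
  have hk3 : 3 ≤ k + 2 := by omega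
  obtain ⟨wa, wb, wc, wd, we⟩ := hWA G H hB hZ x (k + 2) hM
  have h2 := part1 hWA H hB hZ Ps Ys hO hA (fun i => x (k + 2 - i)) k wb
  have e0 : k + 2 - (k + 2) = 0 := Nat.sub_self _
  have e1 : k + 2 - (k + 1) = 1 := by omega
  simp only [e0, e1, Nat.sub_zero] at h2
  obtain ⟨⟨hpts, hadj⟩, hbad, hmin⟩ := hM
  have hp0 : IsPt H (x 0) := hpts 0 (by omega)
  have hp1 : IsPt H (x 1) := hpts 1 (by omega)
  have hpk1 : IsPt H (x (k + 1)) := hpts (k + 1) (by omega)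
  have hpk2 : IsPt H (x (k + 2)) := hpts (k + 2) (by omega)
  have hadjk1 : Adj (x (k + 1)) (x (k + 2)) := hadj (k + 1) (by omega)
  have hne : x 1 ≠ x (k + 1) := wd hk3
  have hgen := hB.gen _ _ hp1 hpk1 hne
  apply hbad
  intro u hu
  have hr1 : ∀ z ∈ Zs (x (k + 2)), u * z * u⁻¹ * z⁻¹ = 1 := by
    intro z hz
    have hc1 : ∀ p ∈ x (k + 1), p * (u * z * u⁻¹ * z⁻¹) = (u * z * u⁻¹ * z⁻¹) * p :=
      h1 u hu z hz
    have hc2 : ∀ p ∈ x 1, p * (u * z * u⁻¹ * z⁻¹) = (u * z * u⁻¹ * z⁻¹) * p := by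
      intro p hp
      have h3 := h2 z hz u hu p hp
      have e : z * u * z⁻¹ * u⁻¹ = (u * z * u⁻¹ * z⁻¹)⁻¹ := by group
      rw [e] at h3
      generalize u * z * u⁻¹ * z⁻¹ = r at h3 ⊢
      calc p * r = r * (r⁻¹ * p) * r := by group
        _ = r * (p * r⁻¹) * r := by rw [h3]
        _ = r * p := by group
    have hrx0 : u * z * u⁻¹ * z⁻¹ ∈ x 0 := ((we (by omega) u hu z hz).1).1.1
    generalize u * z * u⁻¹ * z⁻¹ = r at hc1 hc2 hrx0 ⊢
    have hcen : r ∈ Subgroup.center G := by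
      rw [Subgroup.mem_center_iff]
      intro p
      have hp : p ∈ x 1 ⊔ x (k + 1) := by rw [hgen]; trivial
      have hle : x 1 ⊔ x (k + 1) ≤ Subgroup.centralizer {r} := by
        refine sup_le (fun s hs => ?_) (fun s hs => ?_)
        · rw [Subgroup.mem_centralizer_iff]
          intro h hh
          rw [Set.mem_singleton_iff] at hh
          rw [hh]
          exact (hc2 s hs).symm
        · rw [Subgroup.mem_centralizer_iff]
          intro h hh
          rw [Set.mem_singleton_iff] at hh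
          rw [hh]
          exact (hc1 s hs).symm
      have h3 := hle hp
      rw [Subgroup.mem_centralizer_iff] at h3
      exact (h3 r rfl).symm
    have hnorm : (Subgroup.zpowers r).Normal := by
      refine ⟨fun a ha b => ?_⟩
      have hac : a ∈ Subgroup.center G := by
        obtain ⟨i, rfl⟩ := ha
        exact Subgroup.zpow_mem _ hcen i
      have e : b * a * b⁻¹ = a := by
        rw [Subgroup.mem_center_iff] at hac
        rw [hac b, mul_inv_cancel_right]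
      rw [e]
      exact ha
    have hN : Subgroup.zpowers r = ⊥ :=
      hB.core (x 0) (Subgroup.zpowers r) hp0 ((Subgroup.zpowers_le).2 hrx0) hnorm
    exact Subgroup.zpowers_eq_bot.1 hN
  have hu1 : u ∈ Qs (x (k + 1)) := wa 0 (k + 1) (by omega) (by omega) (by omega) (by omega) hu
  have hlk1 : IsLine (x (k + 1)) (x (k + 1) ⊓ x (k + 2)) := hB.adj_line _ _ hpk1 hpk2 hadjk1
  have hu2 : u ∈ x (k + 2) := (Qs_le_line hlk1 hu1).2
  refine hZ.cz _ hpk2 u hu2 (fun z hz => ?_)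
  have h3 := hr1 z hz
  calc u * z = (u * z * u⁻¹ * z⁻¹) * z * u := by group
    _ = z * u := by rw [h3, one_mul]

end Cfsg.Agent.Lib.Helper72.SWWC
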