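-- S1159 / TRAA: the cyclic subgroup `A` of order `(q+1)/4` of the small Ree group.
import Mathlib
import Cfsg.Agent.Lib.Helper42.ReeSpStmt
import Cfsg.Agent.Lib.Helper59.PSL2Spec

set_option autoImplicit false

namespace Cfsg.Agent.Lib.Helper72.ReeSpTRAA

open Cfsg.Agent.Lib.Helper42.ReeSpStmt

universe u v

theorem centralizer_singleton_eq_zpowers {G : Type u} [Group G] (x : G) :
    Subgroup.centralizer ({x} : Set G) = Subgroup.centralizer (Subgroup.zpowers x : Set G) := by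
  ext y
  rw [Subgroup.mem_centralizer_iff, Subgroup.mem_centralizer_iff]
  constructor
  · intro h z hz
    obtain ⟨k, rfl⟩ := Subgroup.mem_zpowers_iff.mp hz
    have hc : Commute x y := h x (Set.mem_singleton x)
    exact (hc.zpow_left k)
  · intro h z hz
    rw [Set.mem_singleton_iff] at hz
    rw [hz]
    exact h x (Subgroup.mem_zpowers x)

theorem qq_mod8 (m : ℕ) : qq m % 8 = 3 := by
  show 3 ^ (2 * m + 1) % 8 = 3
  rw [pow_succ, pow_mul, Nat.mul_mod, Nat.pow_mod]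
  norm_num

theorem main : TRA.{u, v} := by
  intro Γ _ R D Up K _ _ m hraw hi
  classical
  have hq8 := qq_mod8 m
  have h3q : 3 ≤ qq m := three_le_qq m
  have hfin : Finite ↥R := Nat.finite_of_card_ne_zero (by
    rw [hraw.s1069]
    have h1 : 0 < 3 ^ (2 * m + 1) - 1 := by
      have : 3 ≤ 3 ^ (2 * m + 1) := h3q
      omega
    positivity)
  -- an involution
  have heven : 2 ∣ Nat.card ↥R := by
    rw [hraw.s1069]
    have : 2 ∣ 3 ^ (2 * m + 1) - 1 := by
      have : qq m % 8 = 3 := hq8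
      have h2 : (3 ^ (2 * m + 1)) % 8 = 3 := this
      omega
    exact Dvd.dvd.mul_right (Dvd.dvd.mul_left this _) _
  haveI : Fact (Nat.Prime 2) := ⟨Nat.prime_two⟩
  obtain ⟨s, hs⟩ := exists_prime_orderOf_dvd_card' 2 heven
  obtain ⟨e⟩ := hi.1 s hs
  -- characteristic 3
  obtain ⟨p, hp⟩ := CharP.exists K
  haveI := hp
  obtain ⟨n, hpprime, hcard⟩ := FiniteField.card K p
  have hp3 : p = 3 := by
    rw [hraw.cardK] at hcard
    have h1 : p ∣ 3 ^ (2 * m + 1) := by
      rw [hcard]; exact dvd_pow_self p n.ne_zero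
    exact (Nat.prime_dvd_prime_iff_eq hpprime Nat.prime_three).mp (hpprime.dvd_of_dvd_pow h1)
  subst hp3
  haveI : Fact (Nat.Prime 3) := ⟨Nat.prime_three⟩
  -- an element of order (q+1)/4 of PSL(2,K)
  have hdvd : (qq m + 1) / 4 ∣ (Fintype.card K + 1) / Nat.gcd 2 (Fintype.card K + 1) := by
    rw [hraw.cardK]
    have hg : Nat.gcd 2 (3 ^ (2 * m + 1) + 1) = 2 := by
      apply Nat.gcd_eq_left
      have h2 : (3 ^ (2 * m + 1)) % 8 = 3 := hq8
      omega
    rw [hg]
    have h2 : (3 ^ (2 * m + 1)) % 8 = 3 := hq8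
    refine ⟨2, ?_⟩
    show (3 ^ (2 * m + 1) + 1) / 2 = (3 ^ (2 * m + 1) + 1) / 4 * 2
    omega
  obtain ⟨z, hz⟩ := Cfsg.Agent.Lib.Helper59.PSL2Spec.exists_orderOf_eq_of_dvd_add 3
    ((qq m + 1) / 4) hdvd
  -- transport into `R`
  have hw : orderOf (e.symm ((1 : Multiplicative (ZMod 2)), z)) = (qq m + 1) / 4 := by
    rw [MulEquiv.orderOf_eq, Prod.orderOf]
    simp [hz]
  set a : ↥R := ((e.symm ((1 : Multiplicative (ZMod 2)), z) :
    ↥(Subgroup.centralizer ({s} : Set ↥R))) : ↥R) with ha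
  have hao : orderOf a = (qq m + 1) / 4 := by
    rw [ha, Subgroup.orderOf_coe, hw]
  have hcardA : Nat.card ↥(Subgroup.zpowers a) = (3 ^ (2 * m + 1) + 1) / 4 := by
    rw [Nat.card_zpowers, hao]
  obtain ⟨hcomm, hcardC, hno4, hcent⟩ :=
    (hraw.s2359 (Subgroup.zpowers a) inferInstance).2 hcardA
  refine ⟨Subgroup.zpowers a, inferInstance, hcardA, ?_, hcardC, ?_, hno4⟩
  · intro x hx hx1
    rw [centralizer_singleton_eq_zpowers]
    exact hcent (Subgroup.zpowers x) (Subgroup.zpowers_le.mpr hx)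
      (fun h => hx1 (Subgroup.zpowers_eq_bot.mp h))
  · intro x hx y hy
    have := hcomm.is_comm.comm (⟨x, hx⟩ : ↥(Subgroup.centralizer
      ((Subgroup.zpowers a : Subgroup ↥R) : Set ↥R))) ⟨y, hy⟩
    exact congrArg Subtype.val this

end Cfsg.Agent.Lib.Helper72.ReeSpTRAA
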