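import Mathlib
import Cfsg.Agent.Lib.Helper23.S69Stmt

set_option autoImplicit false

/-!
# S1369 piece COV: if `U = 1` then `M = M_σ K`
-/

namespace Cfsg.Agent.Lib.Helper72.S69COV

open Cfsg Cfsg.Agent.Lib.Helper23.S69Stmt Cfsg.Agent.Lib.Helper54.S68Stmt

universe u

/-- if `A` normalizes `B` then every element of `A ⊔ B` is `b * a` -/
theorem exists_mul_of_mem_sup' {G : Type u} [Group G] (A B : Subgroup G)
    (hconj : ∀ a ∈ A, ∀ b ∈ B, a * b * a⁻¹ ∈ B) (m : G) (hm : m ∈ A ⊔ B) :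
    ∃ b ∈ B, ∃ a ∈ A, m = b * a := by
  let S : Subgroup G :=
    { carrier := {m | ∃ b ∈ B, ∃ a ∈ A, m = b * a}
      one_mem' := ⟨1, B.one_mem, 1, A.one_mem, by simp⟩
      mul_mem' := by
        rintro _ _ ⟨b1, hb1, a1, ha1, rfl⟩ ⟨b2, hb2, a2, ha2, rfl⟩
        exact ⟨b1 * (a1 * b2 * a1⁻¹), B.mul_mem hb1 (hconj a1 ha1 b2 hb2), a1 * a2,
          A.mul_mem ha1 ha2, by group⟩
      inv_mem' := by
        rintro _ ⟨b, hb, a, ha, rfl⟩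
        exact ⟨a⁻¹ * b⁻¹ * a⁻¹⁻¹, hconj a⁻¹ (A.inv_mem ha) b⁻¹ (B.inv_mem hb), a⁻¹,
          A.inv_mem ha, by group⟩ }
  have hA : A ≤ S := fun a ha => ⟨1, B.one_mem, a, ha, by simp⟩
  have hB : B ≤ S := fun b hb => ⟨b, hb, 1, A.one_mem, by simp⟩
  exact (sup_le hA hB) hm

/-- `M` normalizes `M_σ` -/
theorem conj_mem_sigmaCore {G : Type u} [Group G] (M : Subgroup G) (m : G) (hm : m ∈ M)
    (s : G) (hs : s ∈ Cfsg.sigmaCore M) : m * s * m⁻¹ ∈ Cfsg.sigmaCore M := by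
  obtain ⟨s', hs', rfl⟩ := hs
  refine ⟨⟨m, hm⟩ * s' * ⟨m, hm⟩⁻¹, ?_, rfl⟩
  exact (Cfsg.piCore_normal (Cfsg.sigma M) M).conj_mem s' hs' ⟨m, hm⟩

theorem main : Cov.{u} := by
  intro G _ _ hG M K hM hKU m hm
  obtain ⟨a, ha, b, hb, rfl⟩ := hKU.compl.2.2.2 m hm
  have ha1 : a = 1 := Subgroup.mem_bot.mp ha
  have hKM : K ≤ M := hKU.hall.1
  obtain ⟨s, hs, k, hk, hbe⟩ := exists_mul_of_mem_sup' K (Cfsg.sigmaCore M)
    (fun k hk s hs => conj_mem_sigmaCore M k (hKM hk) s hs) b hb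
  exact ⟨s, hs, k, hk, by rw [ha1, one_mul, hbe]⟩

end Cfsg.Agent.Lib.Helper72.S69COV
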