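import Mathlib
import Cfsg.Agent.S0059
import Cfsg.Agent.S0001
import Cfsg.Agent.Lib.Helper91.Hall

set_option autoImplicit false

namespace Cfsg.Agent.Lib.Helper72.CoprimeHall

open Pointwise

universe u

/-- splitting a positive number into its `π`-part and `π'`-part -/
theorem exists_pi_split (π : Set ℕ) (N : ℕ) (hN : N ≠ 0) :
    ∃ m n : ℕ, N = m * n ∧ (∀ p : ℕ, p.Prime → p ∣ m → p ∈ π) ∧
      (∀ p : ℕ, p.Prime → p ∣ n → p ∉ π) := by
  induction N using Nat.recOnPosPrimePosCoprime with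
  | prime_pow p k hp hk =>
    have hq : ∀ q : ℕ, q.Prime → q ∣ p ^ k → q = p := fun q hq hqd =>
      (Nat.prime_dvd_prime_iff_eq hq hp).mp (hq.dvd_of_dvd_pow hqd)
    by_cases hpπ : p ∈ π
    · refine ⟨p ^ k, 1, by simp, ?_, ?_⟩
      · intro q hq1 hqd
        rw [hq q hq1 hqd]; exact hpπ
      · intro q hq1 hqd
        exact absurd (Nat.dvd_one.mp hqd) hq1.ne_one
    · refine ⟨1, p ^ k, by simp, ?_, ?_⟩
      · intro q hq1 hqd
        exact absurd (Nat.dvd_one.mp hqd) hq1.ne_one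
      · intro q hq1 hqd
        rw [hq q hq1 hqd]; exact hpπ
  | zero => exact absurd rfl hN
  | one =>
    refine ⟨1, 1, rfl, ?_, ?_⟩ <;>
    · intro q hq1 hqd
      exact absurd (Nat.dvd_one.mp hqd) hq1.ne_one
  | coprime a b ha hb hab iha ihb =>
    obtain ⟨m1, n1, e1, hm1, hn1⟩ := iha (by omega)
    obtain ⟨m2, n2, e2, hm2, hn2⟩ := ihb (by omega)
    refine ⟨m1 * m2, n1 * n2, by rw [e1, e2]; ring, ?_, ?_⟩
    · intro q hq1 hqd
      rcases (Nat.Prime.dvd_mul hq1).mp hqd with h | h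
      · exact hm1 q hq1 h
      · exact hm2 q hq1 h
    · intro q hq1 hqd
      rcases (Nat.Prime.dvd_mul hq1).mp hqd with h | h
      · exact hn1 q hq1 h
      · exact hn2 q hq1 h

theorem coprime_of_pi {π : Set ℕ} {m n : ℕ} (hm : ∀ p : ℕ, p.Prime → p ∣ m → p ∈ π)
    (hn : ∀ p : ℕ, p.Prime → p ∣ n → p ∉ π) : m.Coprime n :=
  Nat.coprime_of_dvd fun p hp h1 h2 => hn p hp h2 (hm p hp h1)

theorem card_mul_relIndex {X : Type*} [Group X] {H G : Subgroup X} (h : H ≤ G) :
    Nat.card H * H.relIndex G = Nat.card G := by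
  have h2 := Subgroup.relIndex_mul_relIndex (⊥ : Subgroup X) H G bot_le h
  rw [Subgroup.relIndex_bot_left, Subgroup.relIndex_bot_left] at h2
  exact h2

theorem mem_normalizer_of_conj_smul_eq {X : Type*} [Group X] {a : X} {H : Subgroup X}
    (h : MulAut.conj a • H = H) : a ∈ Subgroup.normalizer (H : Set X) := by
  rw [Subgroup.mem_normalizer_iff]
  intro x
  conv_rhs => rw [← h]
  rw [show a * x * a⁻¹ = MulAut.conj a • x from rfl, Subgroup.smul_mem_pointwise_smul_iff]

theorem conj_smul_eq_of_mem_normalizer {X : Type*} [Group X] {a : X} {H : Subgroup X}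
    (h : a ∈ Subgroup.normalizer (H : Set X)) : MulAut.conj a • H = H := by
  ext x
  rw [Subgroup.mem_pointwise_smul_iff_inv_smul_mem]
  rw [Subgroup.mem_normalizer_iff''] at h
  simpa [MulAut.smul_def] using (h x).symm

theorem map_conj_eq {X : Type*} [Group X] (c : X) (H : Subgroup X) :
    H.map (MulAut.conj c).toMonoidHom = MulAut.conj c • H := rfl

theorem isComplement'_of_sup_eq_top {X : Type*} [Group X] [Finite X] (G A : Subgroup X) [G.Normal]
    (hsup : G ⊔ A = ⊤) (hcop : (Nat.card G).Coprime (Nat.card A)) : Subgroup.IsComplement' G A := by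
  apply Subgroup.isComplement'_of_disjoint_and_mul_eq_univ
  · exact Subgroup.disjoint_of_coprime_natCard hcop
  · rw [← Subgroup.normal_mul, hsup]; rfl

/-- the Hall subgroups of order `m` of a subgroup `G` -/
structure Om {X : Type u} [Group X] (G : Subgroup X) (m : ℕ) : Type u where
  val : Subgroup X
  le : val ≤ G
  card : Nat.card val = m

theorem Om.ext' {X : Type u} [Group X] {G : Subgroup X} {m : ℕ} {x y : Om G m}
    (h : x.val = y.val) : x = y := by
  cases x; cases y; cases h; rfl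

instance omAction {X : Type u} [Group X] (G : Subgroup X) [G.Normal] (m : ℕ) :
    MulAction X (Om G m) where
  smul x H := ⟨MulAut.conj x • H.val, by
    have h1 : MulAut.conj x • H.val ≤ MulAut.conj x • G :=
      Subgroup.pointwise_smul_le_pointwise_smul_iff.mpr H.le
    rwa [Subgroup.Normal.conj_smul_eq_self x G] at h1, by
    rw [Cfsg.Agent.Lib.Helper91.Hall.card_conj_smul]; exact H.card⟩
  one_smul H := Om.ext' (by
    show MulAut.conj (1 : X) • H.val = H.val
    rw [map_one, one_smul])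
  mul_smul x y H := Om.ext' (by
    show MulAut.conj (x * y) • H.val = MulAut.conj x • MulAut.conj y • H.val
    rw [map_mul, mul_smul])

theorem om_smul_val {X : Type u} [Group X] (G : Subgroup X) [G.Normal] (m : ℕ) (x : X)
    (H : Om G m) : (x • H).val = MulAut.conj x • H.val := rfl

theorem om_trans {X : Type u} [Group X] [Finite X] (G : Subgroup X) [G.Normal]
    [Group.IsSolvable G] (m n : ℕ) (hG : Nat.card G = m * n) (hmn : m.Coprime n)
    (x y : Om G m) : ∃ k ∈ G, k • x = y := by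
  obtain ⟨g, hg⟩ := Cfsg.Agent.Lib.Helper91.Hall.hall_conj (G := G) m n hG hmn
    (x.val.subgroupOf G) (y.val.subgroupOf G)
    (by rw [Cfsg.Agent.S0001.card_subgroupOf_of_le x.le]; exact x.card)
    (by rw [Cfsg.Agent.S0001.card_subgroupOf_of_le y.le]; exact y.card)
  refine ⟨(g : X), g.2, Om.ext' ?_⟩
  rw [om_smul_val]
  exact Cfsg.Agent.S0001.conj_of_subgroupOf g x.le y.le hg

theorem om_nonempty {X : Type u} [Group X] [Finite X] (G : Subgroup X)
    [Group.IsSolvable G] (m n : ℕ) (hG : Nat.card G = m * n) (hmn : m.Coprime n) :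
    Nonempty (Om G m) := by
  obtain ⟨H₀, hH₀⟩ := Cfsg.Agent.Lib.Helper91.Hall.hall_exists (G := G) m n hG hmn
  refine ⟨⟨H₀.map G.subtype, Subgroup.map_subtype_le H₀, ?_⟩⟩
  rw [Subgroup.card_map_of_injective (Subgroup.subtype_injective G)]
  exact hH₀

/-- strict normal form, existence -/
theorem nf_exists {X : Type u} [Group X] [Finite X] (A G : Subgroup X) [G.Normal]
    (hsup : G ⊔ A = ⊤) (hcop : (Nat.card A).Coprime (Nat.card G)) [hsolv : Group.IsSolvable G]
    (m n : ℕ) (hG : Nat.card G = m * n) (hmn : m.Coprime n) :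
    ∃ H : Subgroup X, H ≤ G ∧ Nat.card H = m ∧ A ≤ Subgroup.normalizer (H : Set X) := by
  have hc := isComplement'_of_sup_eq_top G A hsup hcop.symm
  obtain ⟨x₀⟩ := om_nonempty G m n hG hmn
  obtain ⟨x, hx⟩ := Cfsg.Agent.S0059.glauberman_exists G A hc hcop.symm (Or.inl hsolv)
    (om_trans G m n hG hmn) x₀
  refine ⟨x.val, x.le, x.card, ?_⟩
  intro a ha
  apply mem_normalizer_of_conj_smul_eq
  rw [← om_smul_val G m a x, hx a ha]

/-- strict normal form, conjugacy -/
theorem nf_conj {X : Type u} [Group X] [Finite X] (A G : Subgroup X) [G.Normal]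
    (hsup : G ⊔ A = ⊤) (hcop : (Nat.card A).Coprime (Nat.card G)) [hsolv : Group.IsSolvable G]
    (m n : ℕ) (hG : Nat.card G = m * n) (hmn : m.Coprime n) (H₁ H₂ : Subgroup X)
    (h₁ : H₁ ≤ G) (c₁ : Nat.card H₁ = m) (n₁ : A ≤ Subgroup.normalizer (H₁ : Set X))
    (h₂ : H₂ ≤ G) (c₂ : Nat.card H₂ = m) (n₂ : A ≤ Subgroup.normalizer (H₂ : Set X)) :
    ∃ c ∈ G ⊓ Subgroup.centralizer (A : Set X), MulAut.conj c • H₁ = H₂ := by
  have hc := isComplement'_of_sup_eq_top G A hsup hcop.symm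
  have hfix : ∀ (H : Subgroup X) (h : H ≤ G) (c : Nat.card H = m),
      A ≤ Subgroup.normalizer (H : Set X) → ∀ a ∈ A, a • (⟨H, h, c⟩ : Om G m) = ⟨H, h, c⟩ := by
    intro H h c hn a ha
    apply Om.ext'
    rw [om_smul_val]
    exact conj_smul_eq_of_mem_normalizer (hn ha)
  obtain ⟨k, hk, hkx⟩ := Cfsg.Agent.S0059.glauberman_conj G A hc hcop.symm (Or.inl hsolv)
    (om_trans G m n hG hmn) ⟨H₁, h₁, c₁⟩ ⟨H₂, h₂, c₂⟩ (hfix H₁ h₁ c₁ n₁) (hfix H₂ h₂ c₂ n₂)
  refine ⟨k, hk, ?_⟩
  have := congrArg Om.val hkx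
  rw [om_smul_val] at this
  exact this

theorem subgroupOf_le_normalizer {X : Type*} [Group X] {A H L : Subgroup X} (hH : H ≤ L)
    (h : A ≤ Subgroup.normalizer (H : Set X)) :
    A.subgroupOf L ≤ Subgroup.normalizer ((H.subgroupOf L : Subgroup L) : Set L) := by
  rw [← Subgroup.subgroupOf_normalizer_eq hH]
  intro a ha
  rw [Subgroup.mem_subgroupOf] at ha ⊢
  exact h ha

theorem le_normalizer_of_subgroupOf {X : Type*} [Group X] {A H L : Subgroup X} (hA : A ≤ L)
    (hH : H ≤ L)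
    (h : A.subgroupOf L ≤ Subgroup.normalizer ((H.subgroupOf L : Subgroup L) : Set L)) :
    A ≤ Subgroup.normalizer (H : Set X) := by
  rw [← Subgroup.subgroupOf_normalizer_eq hH] at h
  intro a ha
  have h1 : (⟨a, hA ha⟩ : L) ∈ A.subgroupOf L := Subgroup.mem_subgroupOf.mpr ha
  exact Subgroup.mem_subgroupOf.mp (h h1)

theorem subgroupOf_map_subtype' {X : Type*} [Group X] (L : Subgroup X) (H' : Subgroup L) :
    (H'.map L.subtype).subgroupOf L = H' :=
  Subgroup.comap_map_eq_self_of_injective (Subgroup.subtype_injective L) H'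

/-- data of the transfer to `L = G ⊔ A` -/
theorem transfer_data {X : Type u} [Group X] [Finite X] (A G : Subgroup X)
    (hAG : A ≤ Subgroup.normalizer (G : Set X)) (hcop : (Nat.card A).Coprime (Nat.card G))
    [hsolv : Group.IsSolvable G] :
    (G.subgroupOf (G ⊔ A)).Normal ∧ (G.subgroupOf (G ⊔ A)) ⊔ (A.subgroupOf (G ⊔ A)) = ⊤ ∧
      (Nat.card (A.subgroupOf (G ⊔ A))).Coprime (Nat.card (G.subgroupOf (G ⊔ A))) ∧
      Group.IsSolvable (G.subgroupOf (G ⊔ A)) ∧ Nat.card (G.subgroupOf (G ⊔ A)) = Nat.card G := by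
  have hKL : G ≤ G ⊔ A := le_sup_left
  have hAL : A ≤ G ⊔ A := le_sup_right
  have hLn : G ⊔ A ≤ Subgroup.normalizer (G : Set X) := sup_le Subgroup.le_normalizer hAG
  refine ⟨(Subgroup.normal_subgroupOf_iff_le_normalizer hKL).mpr hLn, ?_, ?_,
    Cfsg.Agent.S0001.solv_subgroupOf G _, Cfsg.Agent.S0001.card_subgroupOf_of_le hKL⟩
  · rw [← Subgroup.subgroupOf_sup hKL hAL, Subgroup.subgroupOf_self]
  · rw [Cfsg.Agent.S0001.card_subgroupOf_of_le hKL, Cfsg.Agent.S0001.card_subgroupOf_of_le hAL]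
    exact hcop

/-- general form, existence -/
theorem gen_exists {X : Type u} [Group X] [Finite X] (A G : Subgroup X)
    (hAG : A ≤ Subgroup.normalizer (G : Set X)) (hcop : (Nat.card A).Coprime (Nat.card G))
    [hsolv : Group.IsSolvable G] (m n : ℕ) (hG : Nat.card G = m * n) (hmn : m.Coprime n) :
    ∃ H : Subgroup X, H ≤ G ∧ Nat.card H = m ∧ A ≤ Subgroup.normalizer (H : Set X) := by
  have hKL : G ≤ G ⊔ A := le_sup_left
  have hAL : A ≤ G ⊔ A := le_sup_right
  obtain ⟨hn, hsup, hcop', hsolv', hcard⟩ := transfer_data A G hAG hcop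
  obtain ⟨H', hH', hc', hn'⟩ := nf_exists (A.subgroupOf (G ⊔ A)) (G.subgroupOf (G ⊔ A)) hsup hcop'
    m n (hcard.trans hG) hmn
  have hHL : H'.map (G ⊔ A).subtype ≤ G ⊔ A := Subgroup.map_subtype_le H'
  refine ⟨H'.map (G ⊔ A).subtype, ?_, ?_, ?_⟩
  · rintro x ⟨y, hy, rfl⟩
    exact Subgroup.mem_subgroupOf.mp (hH' hy)
  · rw [Subgroup.card_map_of_injective (Subgroup.subtype_injective _)]
    exact hc'
  · apply le_normalizer_of_subgroupOf hAL hHL
    rw [subgroupOf_map_subtype']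
    exact hn'

/-- general form, conjugacy -/
theorem gen_conj {X : Type u} [Group X] [Finite X] (A G : Subgroup X)
    (hAG : A ≤ Subgroup.normalizer (G : Set X)) (hcop : (Nat.card A).Coprime (Nat.card G))
    [hsolv : Group.IsSolvable G] (m n : ℕ) (hG : Nat.card G = m * n) (hmn : m.Coprime n)
    (H₁ H₂ : Subgroup X)
    (h₁ : H₁ ≤ G) (c₁ : Nat.card H₁ = m) (n₁ : A ≤ Subgroup.normalizer (H₁ : Set X))
    (h₂ : H₂ ≤ G) (c₂ : Nat.card H₂ = m) (n₂ : A ≤ Subgroup.normalizer (H₂ : Set X)) :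
    ∃ c ∈ G ⊓ Subgroup.centralizer (A : Set X), MulAut.conj c • H₁ = H₂ := by
  have hKL : G ≤ G ⊔ A := le_sup_left
  have hAL : A ≤ G ⊔ A := le_sup_right
  obtain ⟨hn, hsup, hcop', hsolv', hcard⟩ := transfer_data A G hAG hcop
  obtain ⟨c, hc, hcH⟩ := nf_conj (A.subgroupOf (G ⊔ A)) (G.subgroupOf (G ⊔ A)) hsup hcop'
    m n (hcard.trans hG) hmn (H₁.subgroupOf (G ⊔ A)) (H₂.subgroupOf (G ⊔ A))
    (fun x hx => Subgroup.mem_subgroupOf.mpr (h₁ (Subgroup.mem_subgroupOf.mp hx)))
    (by rw [Cfsg.Agent.S0001.card_subgroupOf_of_le (h₁.trans hKL)]; exact c₁)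
    (subgroupOf_le_normalizer (h₁.trans hKL) n₁)
    (fun x hx => Subgroup.mem_subgroupOf.mpr (h₂ (Subgroup.mem_subgroupOf.mp hx)))
    (by rw [Cfsg.Agent.S0001.card_subgroupOf_of_le (h₂.trans hKL)]; exact c₂)
    (subgroupOf_le_normalizer (h₂.trans hKL) n₂)
  refine ⟨(c : X), Subgroup.mem_inf.mpr ⟨Subgroup.mem_subgroupOf.mp hc.1, ?_⟩,
    Cfsg.Agent.S0001.conj_of_subgroupOf c (h₁.trans hKL) (h₂.trans hKL) hcH⟩
  rw [Subgroup.mem_centralizer_iff]
  intro a ha
  have h1 := Subgroup.mem_centralizer_iff.mp hc.2 ⟨a, hAL ha⟩ (Subgroup.mem_subgroupOf.mpr ha)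
  exact congrArg Subtype.val h1

/-- a nontrivial solvable normal subgroup contains a nontrivial `p`-subgroup that is normal in
the whole group -/
theorem exists_normal_pgroup {X : Type*} [Group X] [Finite X] (G : Subgroup X) [hGn : G.Normal]
    [Group.IsSolvable G] (hG : G ≠ ⊥) :
    ∃ (p : ℕ) (M : Subgroup X), p.Prime ∧ M.Normal ∧ M ≤ G ∧ IsPGroup p M ∧ M ≠ ⊥ := by
  classical
  haveI : Nontrivial G := (Subgroup.nontrivial_iff_ne_bot G).mpr hG
  have hsol : ∃ n : ℕ, derivedSeries G n = ⊥ := Group.IsSolvable.solvable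
  have h0 : Nat.find hsol ≠ 0 := by
    intro h0
    have h1 := Nat.find_spec hsol
    rw [h0, derivedSeries_zero] at h1
    exact top_ne_bot h1
  obtain ⟨j, hj⟩ := Nat.exists_eq_succ_of_ne_zero h0
  set A₀ : Subgroup G := derivedSeries G j with hA₀
  have hA₀ne : A₀ ≠ ⊥ := by
    intro h
    have := Nat.find_min' hsol h
    omega
  have hA₀comm : ⁅A₀, A₀⁆ = ⊥ := by
    have h1 := Nat.find_spec hsol
    rw [hj, derivedSeries_succ] at h1
    exact h1
  have hA₀c : ∀ a ∈ A₀, ∀ b ∈ A₀, a * b = b * a := by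
    intro a ha b hb
    have h1 := Subgroup.commutator_eq_bot_iff_le_centralizer.mp hA₀comm
    have h2 := h1 hb
    rw [Subgroup.mem_centralizer_iff] at h2
    exact h2 a ha
  haveI : A₀.Characteristic := derivedSeries_characteristic (G := G) j
  set A : Subgroup X := A₀.map G.subtype with hA
  have hAn : A.Normal := ConjAct.normal_of_characteristic_of_normal
  have hAG : A ≤ G := Subgroup.map_subtype_le A₀
  have hAne : A ≠ ⊥ := by
    intro h
    exact hA₀ne ((Subgroup.map_eq_bot_iff_of_injective A₀ (Subgroup.subtype_injective G)).mp h)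
  have hAc : ∀ a ∈ A, ∀ b ∈ A, a * b = b * a := by
    rintro _ ⟨a, ha, rfl⟩ _ ⟨b, hb, rfl⟩
    exact congrArg Subtype.val (hA₀c a ha b hb)
  have hcardA : Nat.card A ≠ 1 := by
    intro h
    exact hAne (Subgroup.card_eq_one.mp h)
  obtain ⟨p, hp, hpd⟩ := Nat.exists_prime_and_dvd hcardA
  have : Fact p.Prime := ⟨hp⟩
  let N : Subgroup X :=
    { carrier := {a | a ∈ A ∧ a ^ p = 1}
      one_mem' := ⟨A.one_mem, one_pow p⟩
      mul_mem' := by
        rintro a b ⟨ha, hap⟩ ⟨hb, hbp⟩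
        refine ⟨A.mul_mem ha hb, ?_⟩
        have hc : Commute a b := hAc a ha b hb
        rw [hc.mul_pow, hap, hbp, one_mul]
      inv_mem' := by
        rintro a ⟨ha, hap⟩
        exact ⟨A.inv_mem ha, by rw [inv_pow, hap, inv_one]⟩ }
  have hNmem : ∀ a : X, a ∈ N ↔ a ∈ A ∧ a ^ p = 1 := fun a => Iff.rfl
  refine ⟨p, N, hp, ?_, ?_, ?_, ?_⟩
  · constructor
    intro a ha g
    rw [hNmem] at ha ⊢
    refine ⟨hAn.conj_mem a ha.1 g, ?_⟩
    rw [conj_pow, ha.2]
    group
  · intro a ha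
    exact hAG ((hNmem a).mp ha).1
  · intro g
    refine ⟨1, ?_⟩
    apply Subtype.ext
    rw [pow_one, Subgroup.coe_pow]
    exact g.2.2
  · obtain ⟨a, ha⟩ := exists_prime_orderOf_dvd_card' (G := A) p hpd
    intro hbot
    have hmem : (a : X) ∈ N := by
      rw [hNmem]
      refine ⟨a.2, ?_⟩
      have h1 : a ^ p = 1 := by rw [← ha]; exact pow_orderOf_eq_one a
      have h2 := congrArg Subtype.val h1
      rw [Subgroup.coe_pow] at h2
      exact h2
    rw [hbot, Subgroup.mem_bot] at hmem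
    have h3 : a = 1 := Subtype.ext hmem
    rw [h3, orderOf_one] at ha
    exact hp.one_lt.ne ha

theorem card_map_mk_mul {X : Type*} [Group X] [Finite X] (M G : Subgroup X) [M.Normal]
    (hMG : M ≤ G) : Nat.card (G.map (QuotientGroup.mk' M)) * Nat.card M = Nat.card G := by
  have h1 := Cfsg.Agent.Lib.Helper91.Hall.card_comap_mk M (G.map (QuotientGroup.mk' M))
  rw [Subgroup.comap_map_eq, QuotientGroup.ker_mk', sup_eq_left.mpr hMG] at h1
  exact h1.symm

theorem le_normalizer_of_normal {X : Type*} [Group X] (A M : Subgroup X) [M.Normal] :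
    A ≤ Subgroup.normalizer (M : Set X) := fun a _ =>
  mem_normalizer_of_conj_smul_eq (Subgroup.Normal.conj_smul_eq_self a M)

theorem le_normalizer_sup {X : Type*} [Group X] {A S T : Subgroup X}
    (hS : A ≤ Subgroup.normalizer (S : Set X)) (hT : A ≤ Subgroup.normalizer (T : Set X)) :
    A ≤ Subgroup.normalizer ((S ⊔ T : Subgroup X) : Set X) := by
  intro a ha
  apply mem_normalizer_of_conj_smul_eq
  rw [Subgroup.smul_sup, conj_smul_eq_of_mem_normalizer (hS ha),
    conj_smul_eq_of_mem_normalizer (hT ha)]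

theorem le_normalizer_inf {X : Type*} [Group X] {A S T : Subgroup X}
    (hS : A ≤ Subgroup.normalizer (S : Set X)) (hT : A ≤ Subgroup.normalizer (T : Set X)) :
    A ≤ Subgroup.normalizer ((S ⊓ T : Subgroup X) : Set X) := by
  intro a ha
  apply mem_normalizer_of_conj_smul_eq
  rw [Subgroup.smul_inf, conj_smul_eq_of_mem_normalizer (hS ha),
    conj_smul_eq_of_mem_normalizer (hT ha)]

/-- strict normal form, containment, by induction on the order -/
theorem nf_contain_aux (k : ℕ) : ∀ (X : Type u) [Group X] [Finite X] (A G U : Subgroup X)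
    [G.Normal] [Group.IsSolvable G], Nat.card G ≤ k → G ⊔ A = ⊤ →
    (Nat.card A).Coprime (Nat.card G) →
    ∀ m n : ℕ, Nat.card G = m * n → m.Coprime n → U ≤ G →
    A ≤ Subgroup.normalizer (U : Set X) → (Nat.card U).Coprime n →
    ∃ H : Subgroup X, H ≤ G ∧ Nat.card H = m ∧ A ≤ Subgroup.normalizer (H : Set X) ∧ U ≤ H := by
  induction k with
  | zero =>
    intro X _ _ A G U _ _ hk
    have : 0 < Nat.card G := Nat.card_pos
    omega
  | succ k ih =>
    intro X _ _ A G U hGn hsolv hk hsup hcop m n hG hmn hUG hAU hUn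
    by_cases hbot : G = ⊥
    · have hm : m = 1 := by
        rw [hbot, Subgroup.card_bot] at hG
        exact Nat.eq_one_of_mul_eq_one_right hG.symm
      refine ⟨⊥, bot_le, by rw [Subgroup.card_bot, hm], le_normalizer_of_normal A ⊥, ?_⟩
      rw [hbot] at hUG
      exact hUG
    obtain ⟨p, M, hp, hMn, hMG, hMp, hMne⟩ := exists_normal_pgroup G hbot
    haveI := hMn
    haveI : Fact p.Prime := ⟨hp⟩
    set f := QuotientGroup.mk' M with hf
    have hfs : Function.Surjective f := QuotientGroup.mk'_surjective M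
    have hcardM : 1 < Nat.card M := (Subgroup.one_lt_card_iff_ne_bot M).mpr hMne
    have hcardG : Nat.card (G.map f) * Nat.card M = Nat.card G := card_map_mk_mul M G hMG
    have hpos' : 0 < Nat.card (G.map f) := Nat.card_pos
    have hlt : Nat.card (G.map f) ≤ k := by nlinarith
    haveI hGn' : (G.map f).Normal := hGn.map f hfs
    haveI hsolv' : Group.IsSolvable (G.map f) :=
      Group.isSolvable_of_surjective (f.subgroupMap_surjective G)
    have hsup' : G.map f ⊔ A.map f = ⊤ := by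
      rw [← Subgroup.map_sup, hsup, Subgroup.map_top_of_surjective f hfs]
    have hcop' : (Nat.card (A.map f)).Coprime (Nat.card (G.map f)) :=
      Nat.Coprime.coprime_dvd_left (Subgroup.card_map_dvd _ f)
        (Nat.Coprime.coprime_dvd_right (Subgroup.card_map_dvd _ f) hcop)
    have hUG' : U.map f ≤ G.map f := Subgroup.map_mono hUG
    have hAU' : A.map f ≤ Subgroup.normalizer ((U.map f : Subgroup (X ⧸ M)) : Set (X ⧸ M)) :=
      (Subgroup.map_mono hAU).trans (Subgroup.le_normalizer_map f)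
    have hcomapG : (G.map f).comap f = G := by
      rw [Subgroup.comap_map_eq, hf, QuotientGroup.ker_mk', sup_eq_left.mpr hMG]
    obtain ⟨j, hj⟩ : ∃ j, Nat.card M = p ^ j := IsPGroup.iff_card.mp hMp
    have hMdG : Nat.card M ∣ m * n := by rw [← hG]; exact Subgroup.card_dvd_of_le hMG
    have lift : ∀ H' : Subgroup (X ⧸ M), H' ≤ G.map f →
        A.map f ≤ Subgroup.normalizer (H' : Set (X ⧸ M)) → U.map f ≤ H' →
        H'.comap f ≤ G ∧ Nat.card (H'.comap f) = Nat.card H' * Nat.card M ∧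
          A ≤ Subgroup.normalizer ((H'.comap f : Subgroup X) : Set X) ∧ U ≤ H'.comap f ∧
          M ≤ H'.comap f := by
      intro H' h1 h2 h3
      refine ⟨?_, Cfsg.Agent.Lib.Helper91.Hall.card_comap_mk M H', ?_, ?_, ?_⟩
      · rw [← hcomapG]; exact Subgroup.comap_mono h1
      · intro a ha
        exact Subgroup.le_normalizer_comap f
          (Subgroup.mem_comap.mpr (h2 (Subgroup.mem_map_of_mem f ha)))
      · exact Subgroup.map_le_iff_le_comap.mp h3
      · intro x hx
        rw [Subgroup.mem_comap]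
        have : f x = 1 := (QuotientGroup.eq_one_iff x).mpr hx
        rw [this]; exact H'.one_mem
    by_cases hpm : p ∣ m
    · have hpn : ¬ p ∣ n := fun h => Nat.Prime.not_coprime_iff_dvd.mpr ⟨p, hp, hpm, h⟩ hmn
      have hMn' : (Nat.card M).Coprime n := by
        rw [hj]; exact Nat.Coprime.pow_left j ((Nat.Prime.coprime_iff_not_dvd hp).mpr hpn)
      have hMm : Nat.card M ∣ m := hMn'.dvd_of_dvd_mul_right hMdG
      obtain ⟨m', hm'⟩ := hMm
      have hG' : Nat.card (G.map f) = m' * n := by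
        have : Nat.card (G.map f) * Nat.card M = (m' * n) * Nat.card M := by
          rw [hcardG, hG, hm']; ring
        exact Nat.eq_of_mul_eq_mul_right (by omega) this
      have hm'n : m'.Coprime n := Nat.Coprime.coprime_dvd_left (Dvd.intro_left _ hm'.symm) hmn
      have hUn' : (Nat.card (U.map f)).Coprime n :=
        Nat.Coprime.coprime_dvd_left (Subgroup.card_map_dvd _ f) hUn
      obtain ⟨H', h1, h2, h3, h4⟩ := ih (X ⧸ M) (A.map f) (G.map f) (U.map f) hlt hsup' hcop'
        m' n hG' hm'n hUG' hAU' hUn'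
      obtain ⟨l1, l2, l3, l4, l5⟩ := lift H' h1 h3 h4
      exact ⟨H'.comap f, l1, by rw [l2, h2, hm']; ring, l3, l4⟩
    · have hMm' : (Nat.card M).Coprime m := by
        rw [hj]; exact Nat.Coprime.pow_left j ((Nat.Prime.coprime_iff_not_dvd hp).mpr hpm)
      have hMn' : Nat.card M ∣ n := hMm'.dvd_of_dvd_mul_left hMdG
      obtain ⟨n', hn'⟩ := hMn'
      have hG' : Nat.card (G.map f) = m * n' := by
        have : Nat.card (G.map f) * Nat.card M = (m * n') * Nat.card M := by
          rw [hcardG, hG, hn']; ring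
        exact Nat.eq_of_mul_eq_mul_right (by omega) this
      have hmn' : m.Coprime n' := Nat.Coprime.coprime_dvd_right (Dvd.intro_left _ hn'.symm) hmn
      have hUn' : (Nat.card (U.map f)).Coprime n' :=
        Nat.Coprime.coprime_dvd_left (Subgroup.card_map_dvd _ f)
          (Nat.Coprime.coprime_dvd_right (Dvd.intro_left _ hn'.symm) hUn)
      obtain ⟨H', h1, h2, h3, h4⟩ := ih (X ⧸ M) (A.map f) (G.map f) (U.map f) hlt hsup' hcop'
        m n' hG' hmn' hUG' hAU' hUn'
      obtain ⟨l1, l2, l3, l4, l5⟩ := lift H' h1 h3 h4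
      set H₁ := H'.comap f with hH₁
      haveI : Group.IsSolvable H₁ := Cfsg.Agent.S0001.solv_of_le l1
      have hcopH₁ : (Nat.card A).Coprime (Nat.card H₁) :=
        Nat.Coprime.coprime_dvd_right (Subgroup.card_dvd_of_le l1) hcop
      obtain ⟨H, hH1, hHc, hHn⟩ := gen_exists A H₁ l3 hcopH₁ m (Nat.card M) (by rw [l2, h2])
        hMm'.symm
      have hUM : (Nat.card U).Coprime (Nat.card M) :=
        Nat.Coprime.coprime_dvd_right (Dvd.intro _ hn'.symm) hUn
      have hMU : M ⊓ U = ⊥ := (Subgroup.disjoint_of_coprime_natCard hUM.symm).eq_bot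
      have hV : Nat.card ↥(M ⊔ U) = Nat.card M * Nat.card U :=
        Cfsg.Agent.Lib.Helper91.Hall.card_sup_normal M U hMU
      have hMH : M ⊓ H = ⊥ :=
        (Subgroup.disjoint_of_coprime_natCard (by rw [hHc]; exact hMm')).eq_bot
      have hMHsup : M ⊔ H = H₁ := by
        apply Subgroup.eq_of_le_of_card_ge (sup_le l5 hH1)
        rw [Cfsg.Agent.Lib.Helper91.Hall.card_sup_normal M H hMH, l2, h2, hHc, mul_comm]
      have hVH₁ : M ⊔ U ≤ H₁ := sup_le l5 l4
      have hMW : M ⊔ ((M ⊔ U) ⊓ H) = M ⊔ U := by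
        apply le_antisymm (sup_le le_sup_left inf_le_left)
        intro v hv
        have hv1 : v ∈ M ⊔ H := by rw [hMHsup]; exact hVH₁ hv
        rw [← SetLike.mem_coe, Subgroup.normal_mul] at hv1
        obtain ⟨x, hx, y, hy, rfl⟩ := Set.mem_mul.mp hv1
        have hyV : y ∈ M ⊔ U := by
          have := (M ⊔ U).mul_mem ((M ⊔ U).inv_mem (Subgroup.mem_sup_left hx)) hv
          simpa using this
        exact (M ⊔ (M ⊔ U) ⊓ H).mul_mem (Subgroup.mem_sup_left hx)
          (Subgroup.mem_sup_right ⟨hyV, hy⟩)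
      have hW : Nat.card ↥((M ⊔ U) ⊓ H) = Nat.card U := by
        have h5 := Cfsg.Agent.Lib.Helper91.Hall.card_sup_normal M ((M ⊔ U) ⊓ H) (by
          apply le_antisymm _ bot_le
          rw [← hMH]
          exact inf_le_inf_left M inf_le_right)
        rw [hMW, hV] at h5
        exact (Nat.eq_of_mul_eq_mul_left (by omega) h5).symm
      have hAM : A ≤ Subgroup.normalizer (M : Set X) := le_normalizer_of_normal A M
      have hAV : A ≤ Subgroup.normalizer ((M ⊔ U : Subgroup X) : Set X) :=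
        le_normalizer_sup hAM hAU
      have hAW : A ≤ Subgroup.normalizer (((M ⊔ U) ⊓ H : Subgroup X) : Set X) :=
        le_normalizer_inf hAV hHn
      haveI : Group.IsSolvable ↥(M ⊔ U) := Cfsg.Agent.S0001.solv_of_le (hVH₁.trans l1)
      have hcopV : (Nat.card A).Coprime (Nat.card ↥(M ⊔ U)) :=
        Nat.Coprime.coprime_dvd_right (Subgroup.card_dvd_of_le (hVH₁.trans l1)) hcop
      obtain ⟨c, hc, hcW⟩ := gen_conj A (M ⊔ U) hAV hcopV (Nat.card U) (Nat.card M)
        (by rw [hV, mul_comm]) hUM ((M ⊔ U) ⊓ H) U inf_le_left hW hAW le_sup_right rfl hAU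
      have hcG : c ∈ G := l1 (hVH₁ hc.1)
      refine ⟨MulAut.conj c • H, ?_, ?_, ?_, ?_⟩
      · have h5 : MulAut.conj c • H ≤ MulAut.conj c • G :=
          Subgroup.pointwise_smul_le_pointwise_smul_iff.mpr (hH1.trans l1)
        rwa [Subgroup.Normal.conj_smul_eq_self c G] at h5
      · rw [Cfsg.Agent.Lib.Helper91.Hall.card_conj_smul, hHc]
      · intro a ha
        apply mem_normalizer_of_conj_smul_eq
        have hac : a * c = c * a := Subgroup.mem_centralizer_iff.mp hc.2 a ha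
        rw [smul_smul, ← map_mul, hac, map_mul, ← smul_smul,
          conj_smul_eq_of_mem_normalizer (hHn ha)]
      · rw [← hcW]
        exact Subgroup.pointwise_smul_le_pointwise_smul_iff.mpr inf_le_right

/-- general form, containment -/
theorem gen_contain {X : Type u} [Group X] [Finite X] (A G : Subgroup X)
    (hAG : A ≤ Subgroup.normalizer (G : Set X)) (hcop : (Nat.card A).Coprime (Nat.card G))
    [hsolv : Group.IsSolvable G] (m n : ℕ) (hG : Nat.card G = m * n) (hmn : m.Coprime n)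
    (U : Subgroup X) (hUG : U ≤ G) (hAU : A ≤ Subgroup.normalizer (U : Set X))
    (hUn : (Nat.card U).Coprime n) :
    ∃ H : Subgroup X, H ≤ G ∧ Nat.card H = m ∧ A ≤ Subgroup.normalizer (H : Set X) ∧ U ≤ H := by
  have hKL : G ≤ G ⊔ A := le_sup_left
  have hAL : A ≤ G ⊔ A := le_sup_right
  obtain ⟨hn, hsup, hcop', hsolv', hcard⟩ := transfer_data A G hAG hcop
  obtain ⟨H', hH', hc', hn', hU'⟩ := nf_contain_aux (Nat.card (G.subgroupOf (G ⊔ A))) (G ⊔ A : Subgroup X)
    (A.subgroupOf (G ⊔ A)) (G.subgroupOf (G ⊔ A)) (U.subgroupOf (G ⊔ A)) le_rfl hsup hcop'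
    m n (hcard.trans hG) hmn
    (fun x hx => Subgroup.mem_subgroupOf.mpr (hUG (Subgroup.mem_subgroupOf.mp hx)))
    (subgroupOf_le_normalizer (hUG.trans hKL) hAU)
    (by rw [Cfsg.Agent.S0001.card_subgroupOf_of_le (hUG.trans hKL)]; exact hUn)
  have hHL : H'.map (G ⊔ A).subtype ≤ G ⊔ A := Subgroup.map_subtype_le H'
  refine ⟨H'.map (G ⊔ A).subtype, ?_, ?_, ?_, ?_⟩
  · rintro x ⟨y, hy, rfl⟩
    exact Subgroup.mem_subgroupOf.mp (hH' hy)
  · rw [Subgroup.card_map_of_injective (Subgroup.subtype_injective _)]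
    exact hc'
  · apply le_normalizer_of_subgroupOf hAL hHL
    rw [subgroupOf_map_subtype']
    exact hn'
  · intro u hu
    exact ⟨⟨u, hKL (hUG hu)⟩, hU' (Subgroup.mem_subgroupOf.mpr hu), rfl⟩

end Cfsg.Agent.Lib.Helper72.CoprimeHall
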