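import Mathlib
import Cfsg.Agent.Lib.Helper72.CoprimeHall
import Cfsg.Agent.S0023
import Cfsg.Agent.S4071
import Cfsg.Agent.S4341

set_option autoImplicit false

namespace Cfsg.Agent.Lib.Helper72.HallCount

open Pointwise
open Cfsg.Agent.Lib.Helper72.CoprimeHall

universe u

theorem centralizer_sup {G : Type*} [Group G] (A B : Subgroup G) :
    Subgroup.centralizer ((A ⊔ B : Subgroup G) : Set G) =
      Subgroup.centralizer (A : Set G) ⊓ Subgroup.centralizer (B : Set G) := by
  apply le_antisymm
  · exact le_inf (Subgroup.centralizer_le (show (A : Set G) ⊆ (A ⊔ B : Subgroup G) from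
      SetLike.coe_subset_coe.mpr le_sup_left))
      (Subgroup.centralizer_le (show (B : Set G) ⊆ (A ⊔ B : Subgroup G) from
        SetLike.coe_subset_coe.mpr le_sup_right))
  · intro x hx
    have hA : A ≤ Subgroup.centralizer ({x} : Set G) := fun a ha => by
      rw [Subgroup.mem_centralizer_singleton_iff]
      exact Subgroup.mem_centralizer_iff.mp hx.1 a ha
    have hB : B ≤ Subgroup.centralizer ({x} : Set G) := fun a ha => by
      rw [Subgroup.mem_centralizer_singleton_iff]
      exact Subgroup.mem_centralizer_iff.mp hx.2 a ha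
    have h := sup_le hA hB
    rw [Subgroup.mem_centralizer_iff]
    intro h' hh
    exact Subgroup.mem_centralizer_singleton_iff.mp (h hh)

theorem normalizer_le_normalizer_centralizer {G : Type*} [Group G] (H : Subgroup G) :
    Subgroup.normalizer (H : Set G) ≤
      Subgroup.normalizer ((Subgroup.centralizer (H : Set G) : Subgroup G) : Set G) := by
  have key : ∀ g ∈ Subgroup.normalizer (H : Set G), ∀ x ∈ Subgroup.centralizer (H : Set G),
      g * x * g⁻¹ ∈ Subgroup.centralizer (H : Set G) := by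
    intro g hg x hx
    rw [Subgroup.mem_centralizer_iff]
    intro h hh
    have h1 : g⁻¹ * h * g ∈ H := (Subgroup.mem_normalizer_iff''.mp hg h).mp hh
    have h2 := Subgroup.mem_centralizer_iff.mp hx _ h1
    calc h * (g * x * g⁻¹) = g * ((g⁻¹ * h * g) * x) * g⁻¹ := by group
      _ = g * (x * (g⁻¹ * h * g)) * g⁻¹ := by rw [h2]
      _ = g * x * g⁻¹ * h := by group
  intro g hg
  apply Cfsg.Agent.S0026.mem_normalizer_of_conj_mem (key g hg)
  intro x hx
  have := key g⁻¹ (Subgroup.inv_mem _ hg) x hx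
  simpa using this

/-- a `q`-group acting on a `p`-group: the index of the fixed points is `≡ 1` mod `q` -/
theorem fixed_count {G : Type*} [Group G] [Finite G] (p q : ℕ) [Fact p.Prime] [hq : Fact q.Prime]
    (hpq : p ≠ q) (M' Q : Subgroup G)
    (hM' : IsPGroup p M') (hQ : IsPGroup q Q) (hQM' : Q ≤ Subgroup.normalizer (M' : Set G)) :
    (M' ⊓ Subgroup.centralizer (Q : Set G)).relIndex M' ≡ 1 [MOD q] := by
  letI := Cfsg.Agent.S0023.conjAction M' Q hQM'
  have h1 := hQ.card_modEq_card_fixedPoints M'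
  have h2 : (MulAction.fixedPoints Q M' : Set M') =
      (((M' ⊓ Subgroup.centralizer (Q : Set G)).subgroupOf M' : Subgroup M') : Set M') := by
    ext x
    rw [MulAction.mem_fixedPoints, SetLike.mem_coe, Subgroup.mem_subgroupOf, Subgroup.mem_inf,
      Subgroup.mem_centralizer_iff]
    constructor
    · intro h
      refine ⟨x.2, fun g hg => ?_⟩
      have h3 := congrArg Subtype.val (h ⟨g, hg⟩)
      rw [Cfsg.Agent.S0023.coe_conjAction_smul] at h3
      calc g * (x : G) = (g * x * g⁻¹) * g := by group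
        _ = x * g := by rw [h3]
    · rintro ⟨-, h⟩ g
      apply Subtype.ext
      rw [Cfsg.Agent.S0023.coe_conjAction_smul, h g g.2]
      group
  have h3 : Nat.card (MulAction.fixedPoints Q M') =
      Nat.card ↥(M' ⊓ Subgroup.centralizer (Q : Set G)) := by
    rw [← Cfsg.Agent.S0001.card_subgroupOf_of_le (inf_le_left :
      M' ⊓ Subgroup.centralizer (Q : Set G) ≤ M')]
    exact Nat.card_congr (Equiv.setCongr h2)
  rw [h3] at h1
  have h4 := card_mul_relIndex (inf_le_left : M' ⊓ Subgroup.centralizer (Q : Set G) ≤ M')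
  rw [← h4] at h1
  have hcop : Nat.gcd q (Nat.card ↥(M' ⊓ Subgroup.centralizer (Q : Set G))) = 1 := by
    obtain ⟨j, hj⟩ := IsPGroup.iff_card.mp (hM'.to_le (inf_le_left :
      M' ⊓ Subgroup.centralizer (Q : Set G) ≤ M'))
    rw [hj]
    apply Nat.Coprime.pow_right
    exact (Nat.coprime_primes hq.out Fact.out).mpr (Ne.symm hpq)
  apply Nat.ModEq.cancel_left_of_coprime hcop
  rw [mul_one]
  exact h1

/-- the index of the centralizer of a solvable `p'`-subgroup `H` in a normal `p`-subgroup `M`
is a product of numbers, each dividing `|M|` and congruent to `1` modulo a prime divisor of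
`|H|` -/
theorem cent_index_good {G : Type*} [Group G] [Finite G] (p : ℕ) [Fact p.Prime] (M : Subgroup G)
    [M.Normal] (hM : IsPGroup p M) (k : ℕ) : ∀ (H : Subgroup G), Nat.card H ≤ k →
    Group.IsSolvable H → ¬ p ∣ Nat.card H →
    ∃ l : List ℕ, l.prod = (M ⊓ Subgroup.centralizer (H : Set G)).relIndex M ∧
      ∀ x ∈ l, x ∣ Nat.card M ∧ ∃ q : ℕ, q.Prime ∧ q ∣ Nat.card H ∧ x ≡ 1 [MOD q] := by
  induction k with
  | zero =>
    intro H hk
    have : 0 < Nat.card H := Nat.card_pos
    omega
  | succ k ih =>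
    intro H hk hsolv hpH
    by_cases hH : H = ⊥
    · refine ⟨[], ?_, by simp⟩
      rw [List.prod_nil, eq_comm, Subgroup.relIndex_eq_one]
      intro x hx
      refine Subgroup.mem_inf.mpr ⟨hx, ?_⟩
      rw [Subgroup.mem_centralizer_iff]
      intro h hh
      rw [SetLike.mem_coe, hH, Subgroup.mem_bot] at hh
      rw [hh, one_mul, mul_one]
    · haveI : Nontrivial H := (Subgroup.nontrivial_iff_ne_bot H).mpr hH
      obtain ⟨N, q, hNn, hq, hNi⟩ := Cfsg.Agent.S4071.exists_normal_prime_index (G := H)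
      haveI : Fact q.Prime := ⟨hq⟩
      haveI := hNn
      set H' : Subgroup G := N.map H.subtype with hH'
      have hH'H : H' ≤ H := Subgroup.map_subtype_le N
      have hcardH' : Nat.card H' = Nat.card N :=
        Subgroup.card_map_of_injective (Subgroup.subtype_injective H)
      have hcardH : Nat.card H' * q = Nat.card H := by
        rw [hcardH', ← hNi]; exact Subgroup.card_mul_index N
      have hqH : q ∣ Nat.card H := Dvd.intro_left _ hcardH
      have hpq : p ≠ q := by
        rintro rfl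
        exact hpH hqH
      have hk' : Nat.card H' ≤ k := by
        have : 2 ≤ q := hq.two_le
        have : 0 < Nat.card H' := Nat.card_pos
        nlinarith
      have hpH' : ¬ p ∣ Nat.card H' := fun h => hpH (h.trans (Dvd.intro _ hcardH))
      obtain ⟨l', hl', hl''⟩ := ih H' hk' (Cfsg.Agent.S0001.solv_of_le hH'H) hpH'
      -- a Sylow `q`-subgroup of `H`
      obtain ⟨Q₀⟩ : Nonempty (Sylow q H) := inferInstance
      set Q : Subgroup G := (Q₀ : Subgroup H).map H.subtype with hQ
      have hQq : IsPGroup q Q := Q₀.2.map H.subtype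
      have hQH : Q ≤ H := Subgroup.map_subtype_le _
      have hsup₀ : N ⊔ (Q₀ : Subgroup H) = ⊤ := by
        rw [← Subgroup.index_eq_one]
        have d1 : (N ⊔ (Q₀ : Subgroup H)).index ∣ q := by
          have := Subgroup.index_dvd_of_le (le_sup_left : N ≤ N ⊔ (Q₀ : Subgroup H))
          rwa [hNi] at this
        have d2 : (N ⊔ (Q₀ : Subgroup H)).index ∣ (Q₀ : Subgroup H).index :=
          Subgroup.index_dvd_of_le le_sup_right
        rcases (Nat.dvd_prime hq).mp d1 with h | h
        · exact h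
        · rw [h] at d2
          exact absurd d2 Q₀.not_dvd_index
      have hsup : H' ⊔ Q = H := by
        rw [hH', hQ, ← Subgroup.map_sup, hsup₀, ← MonoidHom.range_eq_map, Subgroup.range_subtype]
      set M' : Subgroup G := M ⊓ Subgroup.centralizer (H' : Set G) with hM'
      have hHN : H ≤ Subgroup.normalizer (H' : Set G) := by
        apply le_normalizer_of_subgroupOf le_rfl hH'H
        rw [hH', subgroupOf_map_subtype']
        exact le_normalizer_of_normal _ N
      have hQM' : Q ≤ Subgroup.normalizer (M' : Set G) :=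
        le_normalizer_inf (le_normalizer_of_normal Q M)
          ((hQH.trans hHN).trans (normalizer_le_normalizer_centralizer H'))
      have hfix := fixed_count p q hpq M' Q (hM.to_le inf_le_left) hQq hQM'
      have hcent : M' ⊓ Subgroup.centralizer (Q : Set G) =
          M ⊓ Subgroup.centralizer (H : Set G) := by
        rw [hM', inf_assoc, ← centralizer_sup, hsup]
      rw [hcent] at hfix
      have hle1 : M ⊓ Subgroup.centralizer (H : Set G) ≤ M' := by
        rw [← hcent]; exact inf_le_left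
      refine ⟨(M ⊓ Subgroup.centralizer (H : Set G)).relIndex M' :: l', ?_, ?_⟩
      · rw [List.prod_cons, hl']
        exact Subgroup.relIndex_mul_relIndex _ _ _ hle1 inf_le_left
      · intro x hx
        rcases List.mem_cons.mp hx with h | h
        · rw [h]
          exact ⟨(Subgroup.relIndex_dvd_card _ _).trans (Subgroup.card_dvd_of_le inf_le_left),
            q, hq, hqH, hfix⟩
        · obtain ⟨h1, q', hq', hq'd, hq'm⟩ := hl'' x h
          exact ⟨h1, q', hq', hq'd.trans (Dvd.intro _ hcardH), hq'm⟩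

/-- the number of Hall subgroups is the index of the normalizer of one of them -/
theorem card_hall_eq_index {G : Type u} [Group G] [Finite G] [Group.IsSolvable G] (m n : ℕ)
    (hG : Nat.card G = m * n) (hmn : m.Coprime n) (H₀ : Subgroup G) (hH₀ : Nat.card H₀ = m) :
    Nat.card {H : Subgroup G // Nat.card H = m} = (Subgroup.normalizer (H₀ : Set G)).index := by
  haveI : Group.IsSolvable (⊤ : Subgroup G) :=
    Group.isSolvable_of_isSolvable_injective (Subgroup.subtype_injective ⊤)
  have hG' : Nat.card (⊤ : Subgroup G) = m * n := by rw [Subgroup.card_top]; exact hG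
  haveI : MulAction.IsPretransitive G (Om (⊤ : Subgroup G) m) := ⟨fun x y => by
    obtain ⟨k, -, hk⟩ := om_trans ⊤ m n hG' hmn x y
    exact ⟨k, hk⟩⟩
  let x₀ : Om (⊤ : Subgroup G) m := ⟨H₀, le_top, hH₀⟩
  have h1 := MulAction.index_stabilizer_of_transitive (G := G) (x := x₀)
  have h2 : MulAction.stabilizer G x₀ = Subgroup.normalizer (H₀ : Set G) := by
    ext g
    rw [MulAction.mem_stabilizer_iff]
    constructor
    · intro h
      apply mem_normalizer_of_conj_smul_eq
      exact congrArg Om.val h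
    · intro h
      apply Om.ext'
      exact conj_smul_eq_of_mem_normalizer h
  have h3 : Nat.card {H : Subgroup G // Nat.card H = m} = Nat.card (Om (⊤ : Subgroup G) m) :=
    Nat.card_congr ⟨fun H => ⟨H.1, le_top, H.2⟩, fun x => ⟨x.val, x.card⟩, fun _ => rfl,
      fun _ => rfl⟩
  rw [h3, ← h1, h2]

/-- Frattini argument for a Hall subgroup `H₀` of `H₀ ⊔ M` -/
theorem normalizer_sup_eq {G : Type u} [Group G] [Finite G] [Group.IsSolvable G]
    (M : Subgroup G) [M.Normal] (H₀ : Subgroup G)
    (hcop : (Nat.card M).Coprime (Nat.card H₀)) :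
    Subgroup.normalizer ((H₀ ⊔ M : Subgroup G) : Set G) =
      M ⊔ Subgroup.normalizer (H₀ : Set G) := by
  have hMH : M ⊓ H₀ = ⊥ := (Subgroup.disjoint_of_coprime_natCard hcop).eq_bot
  have hcardL : Nat.card ↥(H₀ ⊔ M) = Nat.card H₀ * Nat.card M := by
    rw [sup_comm, Cfsg.Agent.Lib.Helper91.Hall.card_sup_normal M H₀ hMH, mul_comm]
  apply le_antisymm
  · intro g hg
    have hgL : MulAut.conj g • (H₀ ⊔ M) = H₀ ⊔ M := conj_smul_eq_of_mem_normalizer hg
    have h1 : MulAut.conj g • H₀ ≤ H₀ ⊔ M := by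
      rw [← hgL]
      exact Subgroup.pointwise_smul_le_pointwise_smul_iff.mpr le_sup_left
    haveI : Group.IsSolvable ↥(H₀ ⊔ M) :=
      Group.isSolvable_of_isSolvable_injective (Subgroup.subtype_injective _)
    obtain ⟨l, hl⟩ := Cfsg.Agent.Lib.Helper91.Hall.hall_conj (G := ↥(H₀ ⊔ M)) (Nat.card H₀)
      (Nat.card M) hcardL hcop.symm (H₀.subgroupOf (H₀ ⊔ M))
      ((MulAut.conj g • H₀).subgroupOf (H₀ ⊔ M))
      (Cfsg.Agent.S0001.card_subgroupOf_of_le le_sup_left)
      (by rw [Cfsg.Agent.S0001.card_subgroupOf_of_le h1,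
        Cfsg.Agent.Lib.Helper91.Hall.card_conj_smul])
    have h2 : MulAut.conj (l : G) • H₀ = MulAut.conj g • H₀ :=
      Cfsg.Agent.S0001.conj_of_subgroupOf l le_sup_left h1 hl
    have h3 : (l : G)⁻¹ * g ∈ Subgroup.normalizer (H₀ : Set G) := by
      apply mem_normalizer_of_conj_smul_eq
      rw [map_mul, mul_smul, ← h2, smul_smul, ← map_mul, inv_mul_cancel, map_one, one_smul]
    have h4 : (l : G) ∈ M ⊔ Subgroup.normalizer (H₀ : Set G) := by
      have : H₀ ⊔ M ≤ M ⊔ Subgroup.normalizer (H₀ : Set G) :=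
        sup_le (Subgroup.le_normalizer.trans le_sup_right) le_sup_left
      exact this l.2
    have h5 := Subgroup.mul_mem _ h4 (Subgroup.mem_sup_right (S := M) h3)
    simpa using h5
  · apply sup_le
    · exact le_sup_right.trans Subgroup.le_normalizer
    · exact le_normalizer_sup le_rfl (le_normalizer_of_normal _ M)

theorem normalizer_inf_eq {G : Type*} [Group G] [Finite G] (M : Subgroup G) [hMn : M.Normal]
    (H₀ : Subgroup G) (hcop : (Nat.card M).Coprime (Nat.card H₀)) :
    Subgroup.normalizer (H₀ : Set G) ⊓ M = M ⊓ Subgroup.centralizer (H₀ : Set G) := by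
  have hMH : M ⊓ H₀ = ⊥ := (Subgroup.disjoint_of_coprime_natCard hcop).eq_bot
  apply le_antisymm
  · rintro x ⟨hxN, hxM⟩
    refine Subgroup.mem_inf.mpr ⟨hxM, ?_⟩
    rw [Subgroup.mem_centralizer_iff]
    intro h hh
    have h1 : x * h⁻¹ * x⁻¹ ∈ H₀ :=
      (Subgroup.mem_normalizer_iff.mp hxN h⁻¹).mp (H₀.inv_mem hh)
    have h2 : h * (x * h⁻¹ * x⁻¹) ∈ H₀ := H₀.mul_mem hh h1
    have h3 : h * (x * h⁻¹ * x⁻¹) ∈ M := by
      have h4 : h * x * h⁻¹ ∈ M := hMn.conj_mem x hxM h
      have h5 := M.mul_mem h4 (M.inv_mem hxM)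
      have e : h * (x * h⁻¹ * x⁻¹) = h * x * h⁻¹ * x⁻¹ := by group
      rw [e]; exact h5
    have h6 : h * (x * h⁻¹ * x⁻¹) ∈ M ⊓ H₀ := ⟨h3, h2⟩
    rw [hMH, Subgroup.mem_bot] at h6
    calc h * x = h * (x * h⁻¹ * x⁻¹) * (x * h) := by group
      _ = x * h := by rw [h6, one_mul]
  · rintro x ⟨hxM, hxC⟩
    exact ⟨Subgroup.centralizer_le_normalizer _ hxC, hxM⟩

/-- the number of Hall subgroups and a normal subgroup of coprime order -/
theorem card_hall_quot {G : Type u} [Group G] [Finite G] [Group.IsSolvable G] (m n : ℕ)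
    (hG : Nat.card G = m * n) (hmn : m.Coprime n) (M : Subgroup G) [M.Normal]
    (hMm : (Nat.card M).Coprime m) (H₀ : Subgroup G) (hH₀ : Nat.card H₀ = m) :
    Nat.card {H : Subgroup G // Nat.card H = m} =
      Nat.card {H : Subgroup (G ⧸ M) // Nat.card H = m} *
        (M ⊓ Subgroup.centralizer (H₀ : Set G)).relIndex M := by
  have hMdG : Nat.card M ∣ m * n := by rw [← hG]; exact Subgroup.card_subgroup_dvd_card M
  obtain ⟨n', hn'⟩ := hMm.dvd_of_dvd_mul_left hMdG
  have hQ : Nat.card (G ⧸ M) = m * n' := by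
    have h1 := Subgroup.card_eq_card_quotient_mul_card_subgroup M
    rw [hG, hn'] at h1
    have hpos : 0 < Nat.card M := Nat.card_pos
    have : (m * n') * Nat.card M = Nat.card (G ⧸ M) * Nat.card M := by rw [← h1]; ring
    exact (Nat.eq_of_mul_eq_mul_right hpos this).symm
  have hmn' : m.Coprime n' := Nat.Coprime.coprime_dvd_right (Dvd.intro_left _ hn'.symm) hmn
  set f := QuotientGroup.mk' M with hf
  have hfs : Function.Surjective f := QuotientGroup.mk'_surjective M
  have hbar : Nat.card (H₀.map f) = m :=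
    (Cfsg.Agent.Lib.Helper91.Hall.card_map_mk M H₀ hG hmn hH₀ hQ dvd_rfl
      (Dvd.intro_left _ hn'.symm)).1
  haveI : Group.IsSolvable (G ⧸ M) := Group.isSolvable_of_surjective hfs
  rw [card_hall_eq_index m n hG hmn H₀ hH₀, card_hall_eq_index m n' hQ hmn' (H₀.map f) hbar]
  have hcop : (Nat.card M).Coprime (Nat.card H₀) := by rw [hH₀]; exact hMm
  have e1 : (Subgroup.normalizer ((H₀.map f : Subgroup (G ⧸ M)) : Set (G ⧸ M))).index =
      (Subgroup.normalizer ((H₀ ⊔ M : Subgroup G) : Set G)).index := by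
    rw [← Subgroup.index_comap_of_surjective _ hfs, Subgroup.comap_normalizer_eq_of_surjective _ hfs,
      Subgroup.comap_map_eq, hf, QuotientGroup.ker_mk']
  have hle : Subgroup.normalizer (H₀ : Set G) ≤
      Subgroup.normalizer ((H₀ ⊔ M : Subgroup G) : Set G) :=
    le_normalizer_sup le_rfl (le_normalizer_of_normal _ M)
  rw [e1, ← Subgroup.relIndex_mul_index hle, mul_comm]
  congr 1
  rw [normalizer_sup_eq M H₀ hcop,
    Cfsg.Agent.S4341.relIndex_sup_of_le_normalizer _ M (le_normalizer_of_normal _ M),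
    ← Subgroup.inf_relIndex_right, normalizer_inf_eq M H₀ hcop]

/-- the number of Hall subgroups and a normal subgroup whose order divides `m` -/
theorem card_hall_quot' {G : Type u} [Group G] [Finite G] [Group.IsSolvable G] (m' n : ℕ)
    (M : Subgroup G) [M.Normal] (hG : Nat.card G = (Nat.card M * m') * n)
    (hmn : (Nat.card M * m').Coprime n) :
    Nat.card {H : Subgroup G // Nat.card H = Nat.card M * m'} =
      Nat.card {H : Subgroup (G ⧸ M) // Nat.card H = m'} := by
  have hQ : Nat.card (G ⧸ M) = m' * n := by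
    have h1 := Subgroup.card_eq_card_quotient_mul_card_subgroup M
    rw [hG] at h1
    have hpos : 0 < Nat.card M := Nat.card_pos
    have : (m' * n) * Nat.card M = Nat.card (G ⧸ M) * Nat.card M := by rw [← h1]; ring
    exact (Nat.eq_of_mul_eq_mul_right hpos this).symm
  set f := QuotientGroup.mk' M with hf
  have hfs : Function.Surjective f := QuotientGroup.mk'_surjective M
  have hc : ∀ H : Subgroup G, Nat.card H = Nat.card M * m' → Nat.card (H.map f) = m' :=
    fun H hH => (Cfsg.Agent.Lib.Helper91.Hall.card_map_mk M H hG hmn hH hQ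
      (Dvd.intro_left _ rfl) dvd_rfl).1
  have hMH : ∀ H : Subgroup G, Nat.card H = Nat.card M * m' → M ≤ H := by
    intro H hH
    apply Cfsg.Agent.Lib.Helper91.Hall.normal_le_of_card_map M H
    rw [hc H hH, hH, mul_comm]
  apply Nat.card_congr
  refine ⟨fun H => ⟨H.1.map f, hc H.1 H.2⟩, fun H => ⟨H.1.comap f, ?_⟩, ?_, ?_⟩
  · rw [Cfsg.Agent.Lib.Helper91.Hall.card_comap_mk, H.2, mul_comm]
  · intro H
    apply Subtype.ext
    show (H.1.map f).comap f = H.1
    rw [Subgroup.comap_map_eq, hf, QuotientGroup.ker_mk', sup_eq_left.mpr (hMH H.1 H.2)]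
  · intro H
    apply Subtype.ext
    show (H.1.comap f).map f = H.1
    exact Subgroup.map_comap_eq_self_of_surjective hfs H.1

/-- a minimal normal subgroup of a solvable group is a `p`-group -/
theorem exists_minimal_normal {G : Type*} [Group G] [Finite G] [Nontrivial G]
    [Group.IsSolvable G] :
    ∃ (p : ℕ) (M : Subgroup G), p.Prime ∧ M.Normal ∧ M ≠ ⊥ ∧ IsPGroup p M ∧
      ∀ N : Subgroup G, N.Normal → N ≤ M → N = ⊥ ∨ N = M := by
  classical
  have hex : ∃ c : ℕ, ∃ N : Subgroup G, N.Normal ∧ N ≠ ⊥ ∧ Nat.card N = c :=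
    ⟨_, ⊤, inferInstance, top_ne_bot, rfl⟩
  obtain ⟨M, hMn, hMne, hMc⟩ := Nat.find_spec hex
  have hmin : ∀ N : Subgroup G, N.Normal → N ≠ ⊥ → Nat.card M ≤ Nat.card N := by
    intro N hN hNne
    rw [hMc]
    exact Nat.find_min' hex ⟨N, hN, hNne, rfl⟩
  haveI := hMn
  haveI : Group.IsSolvable M :=
    Group.isSolvable_of_isSolvable_injective (Subgroup.subtype_injective M)
  obtain ⟨p, N, hp, hNn, hNM, hNp, hNne⟩ := exists_normal_pgroup M hMne
  have hNeq : N = M := Subgroup.eq_of_le_of_card_ge hNM (hmin N hNn hNne)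
  refine ⟨p, M, hp, hMn, hMne, hNeq ▸ hNp, ?_⟩
  intro N' hN' hN'M
  by_cases h : N' = ⊥
  · exact Or.inl h
  · exact Or.inr (Subgroup.eq_of_le_of_card_ge hN'M (hmin N' hN' h))

end Cfsg.Agent.Lib.Helper72.HallCount
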