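import Mathlib
import Cfsg.Agent.Lib.Helper59.C2Stmt

/-!
# S5974C / PLANE0 (helper59's sub-call): singular `e`, `f` with `β(e, f) ≠ 0` span a
nondegenerate plus-type plane (any characteristic).
-/

set_option autoImplicit false

universe u

namespace Cfsg.Agent.Lib.Helper72.C2PLANE0

open Cfsg.Agent.Lib.Helper44.TPStmt (J NDeg Stab TSub Plus)
open Cfsg.Agent.Lib.Helper59.C2Stmt

section gen

variable {F : Type u} [Field F] {d : ℕ}

theorem polar_eq (u v : J d → F) :
    QuadraticMap.polar (Cfsg.quadFormPlus d F) u v
      = ∑ i : Fin d, (u (.inl i) * v (.inr i) + v (.inl i) * u (.inr i)) := by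
  simp only [QuadraticMap.polar, Cfsg.quadFormPlus, Pi.add_apply]
  rw [← Finset.sum_sub_distrib, ← Finset.sum_sub_distrib]
  refine Finset.sum_congr rfl (fun i _ => by ring)

theorem polar_add_left (u u' v : J d → F) :
    QuadraticMap.polar (Cfsg.quadFormPlus d F) (u + u') v
      = QuadraticMap.polar (Cfsg.quadFormPlus d F) u v
        + QuadraticMap.polar (Cfsg.quadFormPlus d F) u' v := by
  rw [polar_eq, polar_eq, polar_eq, ← Finset.sum_add_distrib]
  refine Finset.sum_congr rfl (fun i _ => by simp only [Pi.add_apply]; ring)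

theorem polar_smul_left (c : F) (u v : J d → F) :
    QuadraticMap.polar (Cfsg.quadFormPlus d F) (c • u) v
      = c * QuadraticMap.polar (Cfsg.quadFormPlus d F) u v := by
  rw [polar_eq, polar_eq, Finset.mul_sum]
  refine Finset.sum_congr rfl (fun i _ => by simp only [Pi.smul_apply, smul_eq_mul]; ring)

theorem polar_self (u : J d → F) :
    QuadraticMap.polar (Cfsg.quadFormPlus d F) u u = 2 * Cfsg.quadFormPlus d F u := by
  rw [polar_eq, Cfsg.quadFormPlus, Finset.mul_sum]
  refine Finset.sum_congr rfl (fun i _ => by ring)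

theorem polar_zero_left (v : J d → F) :
    QuadraticMap.polar (Cfsg.quadFormPlus d F) (0 : J d → F) v = 0 := by
  rw [polar_eq]
  simp

theorem Q_smul (c : F) (u : J d → F) :
    Cfsg.quadFormPlus d F (c • u) = c * c * Cfsg.quadFormPlus d F u := by
  simp only [Cfsg.quadFormPlus, Pi.smul_apply, smul_eq_mul, Finset.mul_sum]
  refine Finset.sum_congr rfl (fun i _ => by ring)

end gen

theorem main : Plane0.{u} := by
  intro F _ _ d e f he hf hef
  have hfe : QuadraticMap.polar (Cfsg.quadFormPlus d F) f e ≠ 0 := by
    rwa [QuadraticMap.polar_comm]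
  have hee : QuadraticMap.polar (Cfsg.quadFormPlus d F) e e = 0 := by
    rw [polar_self, he, mul_zero]
  have hff : QuadraticMap.polar (Cfsg.quadFormPlus d F) f f = 0 := by
    rw [polar_self, hf, mul_zero]
  have key1 : ∀ a b : F, QuadraticMap.polar (Cfsg.quadFormPlus d F) (a • e + b • f) e
      = b * QuadraticMap.polar (Cfsg.quadFormPlus d F) f e := by
    intro a b
    rw [polar_add_left, polar_smul_left, polar_smul_left, hee, mul_zero, zero_add]
  have key2 : ∀ a b : F, QuadraticMap.polar (Cfsg.quadFormPlus d F) (a • e + b • f) f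
      = a * QuadraticMap.polar (Cfsg.quadFormPlus d F) e f := by
    intro a b
    rw [polar_add_left, polar_smul_left, polar_smul_left, hff, mul_zero, add_zero]
  have hemem : e ∈ Submodule.span F ({e, f} : Set (J d → F)) :=
    Submodule.subset_span (by simp)
  have hfmem : f ∈ Submodule.span F ({e, f} : Set (J d → F)) :=
    Submodule.subset_span (by simp)
  have he0 : e ≠ 0 := by
    rintro rfl
    exact hef (polar_zero_left f)
  have hli : LinearIndependent F ![e, f] := by
    rw [LinearIndependent.pair_iff]
    intro a b hab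
    have h1 := key1 a b
    have h2 := key2 a b
    rw [hab, polar_zero_left] at h1 h2
    refine ⟨?_, ?_⟩
    · rcases mul_eq_zero.mp h2.symm with h | h
      · exact h
      · exact absurd h hef
    · rcases mul_eq_zero.mp h1.symm with h | h
      · exact h
      · exact absurd h hfe
  have hfr : Module.finrank F ↥(Submodule.span F ({e, f} : Set (J d → F))) = 2 := by
    have h := finrank_span_eq_card hli
    rw [Matrix.range_cons_cons_empty] at h
    simpa using h
  refine ⟨?_, ?_, hfr⟩
  · intro w hw hw0
    obtain ⟨a, b, rfl⟩ := Submodule.mem_span_pair.mp hw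
    by_cases ha : a = 0
    · have hb : b ≠ 0 := by
        rintro rfl
        apply hw0
        simp [ha]
      refine ⟨⟨e, hemem, ?_⟩, ⟨e, hemem, ?_⟩⟩
      · rw [QuadraticMap.polar_comm, key1]
        exact mul_ne_zero hb hfe
      · rw [key1]
        exact mul_ne_zero hb hfe
    · refine ⟨⟨f, hfmem, ?_⟩, ⟨f, hfmem, ?_⟩⟩
      · rw [QuadraticMap.polar_comm, key2]
        exact mul_ne_zero ha hef
      · rw [key2]
        exact mul_ne_zero ha hef
  · refine ⟨Submodule.span F ({e} : Set (J d → F)), Submodule.span_mono (by simp), ?_, ?_⟩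
    · intro w hw
      obtain ⟨c, rfl⟩ := Submodule.mem_span_singleton.mp hw
      rw [Q_smul, he, mul_zero]
    · rw [finrank_span_singleton he0, hfr]

end Cfsg.Agent.Lib.Helper72.C2PLANE0
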