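import Mathlib
import Cfsg.Agent.Lib.Helper63.S66Stmt

set_option autoImplicit false

/-!
# S1366 piece ZLE (helper63's interface): `Z = K ⊔ K* ≤ H` and `Z ≤ M`
-/

namespace Cfsg.Agent.Lib.Helper72.S66ZLE

open Cfsg Cfsg.Agent.Lib.Helper9.S51IStmt Cfsg.Agent.Lib.Helper63.S66Stmt

universe u

/-- an element commuting with `x` normalizes `⟨x⟩` -/
theorem mem_normalizer_zpowers_of_commute {G : Type u} [Group G] (g x : G) (h : g * x = x * g) :
    g ∈ Subgroup.normalizer ((Subgroup.zpowers x : Subgroup G) : Set G) := by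
  rw [Subgroup.mem_normalizer_iff]
  intro y
  constructor
  · intro hy
    obtain ⟨i, rfl⟩ := Subgroup.mem_zpowers_iff.mp hy
    have hc : Commute g (x ^ i) := Commute.zpow_right h i
    have : g * x ^ i * g⁻¹ = x ^ i := by rw [hc.eq, mul_inv_cancel_right]
    rw [this]; exact hy
  · intro hy
    obtain ⟨i, hi⟩ := Subgroup.mem_zpowers_iff.mp hy
    have hc : Commute g⁻¹ (x ^ i) := (Commute.zpow_right (show Commute g x from h) i).inv_left
    have : y = x ^ i := by
      have h2 : y = g⁻¹ * (g * y * g⁻¹) * g := by group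
      rw [h2, ← hi, hc.eq, inv_mul_cancel_right]
    rw [this]; exact Subgroup.zpow_mem _ (Subgroup.mem_zpowers x) i

/-- elements of a cyclic subgroup commute -/
theorem commute_of_isCyclic {G : Type u} [Group G] (K : Subgroup G) (hK : IsCyclic K) (a b : G)
    (ha : a ∈ K) (hb : b ∈ K) : a * b = b * a := by
  obtain ⟨g, hg⟩ := hK.exists_generator
  obtain ⟨i, hi⟩ := Subgroup.mem_zpowers_iff.mp (hg ⟨a, ha⟩)
  obtain ⟨j, hj⟩ := Subgroup.mem_zpowers_iff.mp (hg ⟨b, hb⟩)
  have h1 : (g : G) ^ i = a := by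
    have := congrArg Subtype.val hi
    simpa using this
  have h2 : (g : G) ^ j = b := by
    have := congrArg Subtype.val hj
    simpa using this
  rw [← h1, ← h2]
  exact ((Commute.refl (g : G)).zpow_zpow i j).eq

theorem main : ZLe.{u} := by
  intro G _ _ hG M K U H x p hC
  have hKH : K ≤ H := by
    intro k hk
    exact hC.hN (mem_normalizer_zpowers_of_commute k x
      (commute_of_isCyclic K hC.hKU.cyclic k x hk hC.hx))
  have hKsH : Ks M K ≤ H := by
    intro c hc
    have h1 : x * c = c * x := Subgroup.mem_centralizer_iff.mp hc.2 x hC.hx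
    exact hC.hN (mem_normalizer_zpowers_of_commute c x h1.symm)
  have hKM : K ≤ M := hC.hKU.hall.1
  have hKsM : Ks M K ≤ M := fun c hc => (Subgroup.map_subtype_le _ : Cfsg.sigmaCore M ≤ M) hc.1
  exact ⟨sup_le hKH hKsH, sup_le hKM hKsM⟩

end Cfsg.Agent.Lib.Helper72.S66ZLE
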