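import Mathlib
import Cfsg.Agent.Lib.Helper63.S66Stmt

set_option autoImplicit false

/-!
# S1366 piece KSKAP (helper63's interface): every prime of `|K*|` is in `κ(H)`
-/

namespace Cfsg.Agent.Lib.Helper72.S66KSKAP

open Cfsg Cfsg.Agent.Lib.Helper9.S51IStmt Cfsg.Agent.Lib.Helper63.S66Stmt

universe u

theorem main (hL4 : L4.{u}) (hHSP : HSP.{u}) : KsKap.{u} := by
  intro G _ _ hG M K U H x p hC t ht htd
  haveI : Fact t.Prime := ⟨ht⟩
  obtain ⟨c, hc⟩ := exists_prime_orderOf_dvd_card' (G := ↥(Ks M K)) t htd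
  have hHS : HS M (Subgroup.zpowers x) H p := hHSP hG M K U H x p hC
  have hcCR : (c : G) ∈ CR M (Subgroup.zpowers x) := by
    refine ⟨c.2.1, ?_⟩
    have hle : ((Subgroup.zpowers x : Subgroup G) : Set G) ⊆ (K : Set G) := by
      intro y hy
      exact (Subgroup.zpowers_le.mpr hC.hx) hy
    exact Subgroup.centralizer_le hle c.2.2
  have hord : orderOf (c : G) = t := by rw [Subgroup.orderOf_coe]; exact hc
  have := hL4 hG M (Subgroup.zpowers x) H p hHS (c : G) hcCR (by rw [hord]; exact ht)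
  rwa [hord] at this

end Cfsg.Agent.Lib.Helper72.S66KSKAP
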