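-- S2202 / StepF: `C = C_G(S)` meets no conjugate `g H g⁻¹` (`g ∉ H = N_G(S)`) nontrivially.
import Mathlib
import Cfsg.Agent.Lib.Helper25.AICSpec

set_option autoImplicit false

namespace Cfsg.Agent.Lib.Helper72.AICStepF

open Subgroup Cfsg.Agent.Lib.Helper25.AICSpec

universe u

variable {G : Type u} [Group G]

/-- `N_G(S)` normalizes `C_G(S)`. -/
theorem conj_mem_CS {S : Sylow 2 G} {h c : G} (hh : h ∈ NS S) (hc : c ∈ CS S) :
    h * c * h⁻¹ ∈ CS S := by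
  unfold CS at *
  unfold NS at hh
  rw [mem_centralizer_iff] at hc ⊢
  rw [mem_normalizer_iff] at hh
  intro s hs
  have hs' : h⁻¹ * s * h ∈ ((S : Subgroup G) : Set G) := by
    refine (hh (h⁻¹ * s * h)).mpr ?_
    have : h * (h⁻¹ * s * h) * h⁻¹ = s := by group
    rw [this]; exact hs
  have e := hc _ hs'
  calc s * (h * c * h⁻¹) = h * ((h⁻¹ * s * h) * c) * h⁻¹ := by group
    _ = h * (c * (h⁻¹ * s * h)) * h⁻¹ := by rw [e]
    _ = h * c * h⁻¹ * s := by group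

/-- `N_G(S)` normalizes `S` (inverse conjugation). -/
theorem conj_inv_mem_S {S : Sylow 2 G} {h t : G} (hh : h ∈ NS S) (ht : t ∈ S) :
    h⁻¹ * t * h ∈ (S : Subgroup G) := by
  unfold NS at hh
  rw [mem_normalizer_iff] at hh
  have : h⁻¹ * t * h ∈ ((S : Subgroup G) : Set G) := by
    refine (hh (h⁻¹ * t * h)).mpr ?_
    have : h * (h⁻¹ * t * h) * h⁻¹ = t := by group
    rw [this]; exact ht
  exact this

theorem stepF_inv [Finite G] (S : Sylow 2 G) (hloc : Local G S)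
    (hTI : ∀ g y : G, y ∈ CS S → y ≠ 1 → g⁻¹ * y * g ∈ CS S → g ∈ NS S)
    (w : G) (hw : orderOf w = 2) (hwH : w ∉ NS S) (y : G) (hy : y ∈ CS S)
    (hyw : w * y * w⁻¹ ∈ NS S) : y = 1 := by
  classical
  have hw2 : w * w = 1 := by
    have := pow_orderOf_eq_one w
    rwa [hw, pow_two] at this
  have hwinv : w⁻¹ = w := inv_eq_of_mul_eq_one_left hw2
  have TI' : ∀ z ∈ CS S, w * z * w⁻¹ ∈ CS S → z = 1 := by
    intro z hz hz'
    by_contra hne
    apply hwH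
    apply hTI w z hz hne
    rw [hwinv] at hz' ⊢
    exact hz'
  set Bs : Set G := {b | b ∈ CS S ∧ w * b * w⁻¹ ∈ NS S} with hBs
  have h1B : (1 : G) ∈ Bs := ⟨(CS S).one_mem, by simp [(NS S).one_mem]⟩
  have hyB : y ∈ Bs := ⟨hy, hyw⟩
  -- the two conjugate subgroups commute
  have hcomm : ∀ b c, b ∈ Bs → c ∈ Bs → b * (w * c * w⁻¹) = (w * c * w⁻¹) * b := by
    intro b c hb hc
    have hk1 : b * (w * c * w⁻¹) * b⁻¹ * (w * c * w⁻¹)⁻¹ ∈ CS S := by
      have : b * (w * c * w⁻¹) * b⁻¹ * (w * c * w⁻¹)⁻¹ =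
          b * ((w * c * w⁻¹) * b⁻¹ * (w * c * w⁻¹)⁻¹) := by group
      rw [this]
      exact (CS S).mul_mem hb.1 (conj_mem_CS hc.2 ((CS S).inv_mem hb.1))
    have hk2 : w * (b * (w * c * w⁻¹) * b⁻¹ * (w * c * w⁻¹)⁻¹) * w⁻¹ ∈ CS S := by
      have e0 : w * (w * c * w⁻¹) * w⁻¹ = c := by
        have : w * (w * c * w⁻¹) * w⁻¹ = (w * w) * c * (w * w)⁻¹ := by group
        rw [this, hw2]; group
      have : w * (b * (w * c * w⁻¹) * b⁻¹ * (w * c * w⁻¹)⁻¹) * w⁻¹ =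
          (w * b * w⁻¹) * (w * (w * c * w⁻¹) * w⁻¹) * (w * b * w⁻¹)⁻¹ *
            (w * (w * c * w⁻¹) * w⁻¹)⁻¹ := by group
      rw [this, e0]
      exact (CS S).mul_mem (conj_mem_CS hb.2 hc.1) ((CS S).inv_mem hc.1)
    have hk := TI' _ hk1 hk2
    have : b * (w * c * w⁻¹) * ((w * c * w⁻¹) * b)⁻¹ = 1 := by
      calc b * (w * c * w⁻¹) * ((w * c * w⁻¹) * b)⁻¹
          = b * (w * c * w⁻¹) * b⁻¹ * (w * c * w⁻¹)⁻¹ := by group
        _ = 1 := hk
    exact mul_inv_eq_one.mp this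
  -- the size bound
  have hm_le : Bs.ncard ≤ qm1 S := by
    let ψ : ↥Bs × ↥(CS S) → ↥(NS S) := fun p =>
      ⟨w * p.1.1 * w⁻¹ * p.2.1, (NS S).mul_mem p.1.2.2 (hloc.l1.cle p.2.2)⟩
    have hψ : Function.Injective ψ := by
      rintro ⟨⟨b, hb⟩, ⟨c, hc⟩⟩ ⟨⟨b', hb'⟩, ⟨c', hc'⟩⟩ h
      have h' : w * b * w⁻¹ * c = w * b' * w⁻¹ * c' := congrArg Subtype.val h
      have hz : w * (b'⁻¹ * b) * w⁻¹ ∈ CS S := by
        have : w * (b'⁻¹ * b) * w⁻¹ = c' * c⁻¹ := by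
          have : w * (b'⁻¹ * b) * w⁻¹ = (w * b' * w⁻¹)⁻¹ * (w * b * w⁻¹ * c) * c⁻¹ := by group
          rw [this, h']; group
        rw [this]; exact (CS S).mul_mem hc' ((CS S).inv_mem hc)
      have hbb := TI' _ ((CS S).mul_mem ((CS S).inv_mem hb'.1) hb.1) hz
      have hb_eq : b' = b := inv_mul_eq_one.mp hbb
      subst hb_eq
      have hc_eq : c = c' := mul_left_cancel h'
      subst hc_eq
      rfl
    have h1 := Nat.card_le_card_of_injective ψ hψ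
    rw [Nat.card_prod, Nat.card_coe_set_eq, hloc.cardN] at h1
    have hpos : 0 < Nat.card (CS S) := Nat.card_pos
    rw [mul_comm] at h1
    exact Nat.le_of_mul_le_mul_left h1 hpos
  -- an involution of `S`
  obtain ⟨t, htS, ht2⟩ : ∃ t : G, t ∈ S ∧ orderOf t = 2 := by
    have h3 := hloc.three
    have hpos : 0 < Nat.card {t : G // t ∈ S ∧ orderOf t = 2} := by unfold qm1 at h3; omega
    obtain ⟨⟨t, ht⟩⟩ := (Nat.card_pos_iff.mp hpos).1
    exact ⟨t, ht⟩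
  have hconjB : ∀ d b : G, d ∈ NS S → w * d * w = d⁻¹ → b ∈ Bs → d * b * d⁻¹ ∈ Bs := by
    intro d b hd hdw hb
    refine ⟨conj_mem_CS hd hb.1, ?_⟩
    have : w * (d * b * d⁻¹) * w⁻¹ = (w * d * w⁻¹) * (w * b * w⁻¹) * (w * d * w⁻¹)⁻¹ := by group
    rw [this]
    have hwd : w * d * w⁻¹ ∈ NS S := by rw [hwinv, hdw]; exact (NS S).inv_mem hd
    exact (NS S).mul_mem ((NS S).mul_mem hwd hb.2) ((NS S).inv_mem hwd)
  -- key injectivity
  have hF1 : ∀ d d' b : G, d ∈ NS S → w * d * w = d⁻¹ → d' ∈ NS S → w * d' * w = d'⁻¹ →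
      b ∈ Bs → b ≠ 1 → d * b * d⁻¹ = d' * b * d'⁻¹ → d = d' := by
    intro d d' b hd hdw hd' hdw' hb hb1 heq
    have hv2 : (w * d) * (w * d) = 1 := by
      have : (w * d) * (w * d) = (w * d * w) * d := by group
      rw [this, hdw]; group
    have hv'2 : (w * d') * (w * d') = 1 := by
      have : (w * d') * (w * d') = (w * d' * w) * d' := by group
      rw [this, hdw']; group
    have hv1 : w * d ≠ 1 := by
      intro h
      apply hwH
      have : w = d⁻¹ := eq_inv_of_mul_eq_one_left h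
      rw [this]; exact (NS S).inv_mem hd
    have hv'1 : w * d' ≠ 1 := by
      intro h
      apply hwH
      have : w = d'⁻¹ := eq_inv_of_mul_eq_one_left h
      rw [this]; exact (NS S).inv_mem hd'
    haveI : Fact (Nat.Prime 2) := ⟨Nat.prime_two⟩
    have hvo : orderOf (w * d) = 2 := orderOf_eq_prime (by rw [pow_two]; exact hv2) hv1
    have hv'o : orderOf (w * d') = 2 := orderOf_eq_prime (by rw [pow_two]; exact hv'2) hv'1
    have hcB : d * b * d⁻¹ ∈ Bs := hconjB d b hd hdw hb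
    have hb'1 : (w * d) * b * (w * d)⁻¹ = w * (d * b * d⁻¹) * w⁻¹ := by group
    have hb'2 : (w * d') * b * (w * d')⁻¹ = w * (d * b * d⁻¹) * w⁻¹ := by rw [heq]; group
    have hbc := hcomm b (d * b * d⁻¹) hb hcB
    have hcen : ∀ v : G, v * v = 1 → v * b * v⁻¹ = w * (d * b * d⁻¹) * w⁻¹ →
        v * (b * (w * (d * b * d⁻¹) * w⁻¹)) = (b * (w * (d * b * d⁻¹) * w⁻¹)) * v := by
      intro v hv hvb
      have h2 : v * (w * (d * b * d⁻¹) * w⁻¹) * v⁻¹ = b := by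
        rw [← hvb]
        have : v * (v * b * v⁻¹) * v⁻¹ = (v * v) * b * (v * v)⁻¹ := by group
        rw [this, hv]; group
      have : v * (b * (w * (d * b * d⁻¹) * w⁻¹)) * v⁻¹ = b * (w * (d * b * d⁻¹) * w⁻¹) := by
        calc v * (b * (w * (d * b * d⁻¹) * w⁻¹)) * v⁻¹
            = (v * b * v⁻¹) * (v * (w * (d * b * d⁻¹) * w⁻¹) * v⁻¹) := by group
          _ = (w * (d * b * d⁻¹) * w⁻¹) * b := by rw [hvb, h2]
          _ = b * (w * (d * b * d⁻¹) * w⁻¹) := hbc.symm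
      exact mul_inv_eq_iff_eq_mul.mp this
    have hvz := hcen (w * d) hv2 hb'1
    have hv'z := hcen (w * d') hv'2 hb'2
    have hz1 : b * (w * (d * b * d⁻¹) * w⁻¹) ≠ 1 := by
      intro h
      have h1 : w * (d * b * d⁻¹) * w⁻¹ = b⁻¹ := (eq_inv_of_mul_eq_one_right h)
      have h2 : d * b * d⁻¹ = 1 := TI' _ hcB.1 (by rw [h1]; exact (CS S).inv_mem hb.1)
      exact hb1 (conj_eq_one_iff.mp h2)
    obtain ⟨x, hx⟩ := hloc.l2.conj t (w * d) ht2 hvo
    obtain ⟨x', hx'⟩ := hloc.l2.conj t (w * d') ht2 hv'o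
    have hcent := hloc.l1.cent t htS ht2
    have hconjC : ∀ (v x z : G), x⁻¹ * t * x = v → v * z = z * v → x * z * x⁻¹ ∈ CS S := by
      intro v x z hxv hvz
      rw [← hcent, mem_centralizer_iff]
      intro s hs
      rw [Set.mem_singleton_iff] at hs
      rw [hs]
      rw [← hxv] at hvz
      calc t * (x * z * x⁻¹) = x * ((x⁻¹ * t * x) * z) * x⁻¹ := by group
        _ = x * (z * (x⁻¹ * t * x)) * x⁻¹ := by rw [hvz]
        _ = x * z * x⁻¹ * t := by group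
    have hxz := hconjC _ x _ hx hvz
    have hx'z := hconjC _ x' _ hx' hv'z
    have hne : x * (b * (w * (d * b * d⁻¹) * w⁻¹)) * x⁻¹ ≠ 1 := fun h => hz1 (conj_eq_one_iff.mp h)
    have hg0 : x * x'⁻¹ ∈ NS S := by
      apply hTI (x * x'⁻¹) _ hxz hne
      have : (x * x'⁻¹)⁻¹ * (x * (b * (w * (d * b * d⁻¹) * w⁻¹)) * x⁻¹) * (x * x'⁻¹) =
          x' * (b * (w * (d * b * d⁻¹) * w⁻¹)) * x'⁻¹ := by group
      rw [this]; exact hx'z
    have hS1 : x' * (w * d) * x'⁻¹ ∈ (S : Subgroup G) := by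
      rw [← hx]
      have : x' * (x⁻¹ * t * x) * x'⁻¹ = (x * x'⁻¹)⁻¹ * t * (x * x'⁻¹) := by group
      rw [this]
      exact conj_inv_mem_S hg0 htS
    have hS2 : x' * (w * d') * x'⁻¹ ∈ (S : Subgroup G) := by
      rw [← hx']
      have : x' * (x'⁻¹ * t * x') * x'⁻¹ = t := by group
      rw [this]; exact htS
    have hcm := hloc.l1.comm _ _ (hloc.l1.le hS1) (hloc.l1.le hS2)
    have hvv : (w * d) * (w * d') = (w * d') * (w * d) := by
      have h1 : x' * ((w * d) * (w * d')) * x'⁻¹ = x' * ((w * d') * (w * d)) * x'⁻¹ := by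
        have e1 : x' * ((w * d) * (w * d')) * x'⁻¹ =
            (x' * (w * d) * x'⁻¹) * (x' * (w * d') * x'⁻¹) := by group
        have e2 : x' * ((w * d') * (w * d)) * x'⁻¹ =
            (x' * (w * d') * x'⁻¹) * (x' * (w * d) * x'⁻¹) := by group
        rw [e1, e2, hcm]
      exact mul_left_cancel (mul_right_cancel h1)
    have he : (w * d) * (w * d') = d⁻¹ * d' := by
      have : (w * d) * (w * d') = (w * d * w) * d' := by group
      rw [this, hdw]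
    have he2 : (d⁻¹ * d') * (d⁻¹ * d') = 1 := by
      rw [← he]
      calc (w * d) * (w * d') * ((w * d) * (w * d'))
          = (w * d) * ((w * d') * (w * d)) * (w * d') := by group
        _ = (w * d) * ((w * d) * (w * d')) * (w * d') := by rw [hvv]
        _ = ((w * d) * (w * d)) * ((w * d') * (w * d')) := by group
        _ = 1 := by rw [hv2, hv'2, one_mul]
    by_contra hdd
    have he1 : d⁻¹ * d' ≠ 1 := fun h => hdd (inv_mul_eq_one.mp h)
    have heo : orderOf (d⁻¹ * d') = 2 := orderOf_eq_prime (by rw [pow_two]; exact he2) he1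
    have heH : d⁻¹ * d' ∈ NS S := (NS S).mul_mem ((NS S).inv_mem hd) hd'
    have heS : d⁻¹ * d' ∈ S := hloc.l1.inv_mem _ heH heo
    have hdw1 : w * d * w⁻¹ = d⁻¹ := by rw [hwinv]; exact hdw
    have hdw1' : w * d' * w⁻¹ = d'⁻¹ := by rw [hwinv]; exact hdw'
    have hwe : w * (d⁻¹ * d') * w⁻¹ = d * d'⁻¹ := by
      have : w * (d⁻¹ * d') * w⁻¹ = (w * d * w⁻¹)⁻¹ * (w * d' * w⁻¹) := by group
      rw [this, hdw1, hdw1', inv_inv]
    have hwo : orderOf (d * d'⁻¹) = 2 := by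
      rw [← hwe, ← heo]
      exact MulEquiv.orderOf_eq (MulAut.conj w) (d⁻¹ * d')
    have hH' : d * d'⁻¹ ∈ NS S := (NS S).mul_mem hd ((NS S).inv_mem hd')
    have hS' : d * d'⁻¹ ∈ S := hloc.l1.inv_mem _ hH' hwo
    apply hwH
    apply hloc.l1.ti w (d⁻¹ * d') heS he1
    have : w⁻¹ * (d⁻¹ * d') * w = d * d'⁻¹ := by rw [← hwe, hwinv]
    rw [this]; exact hS'
  -- the count
  have hm1 : 1 ≤ Bs.ncard := (Set.ncard_pos (Set.toFinite Bs)).mpr ⟨1, h1B⟩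
  have hB0card : (Bs \ {1}).ncard = Bs.ncard - 1 := Set.ncard_sdiff_singleton_of_mem h1B
  have hJcard : ({d | d ∈ NS S ∧ w * d * w = d⁻¹} : Set G).ncard = qm1 S := by
    rw [← hloc.l4.jcard w hw hwH]
    rfl
  have hX1 : ((fun b => (b, (1 : G))) '' (Bs \ {1})).ncard = Bs.ncard - 1 := by
    rw [← hB0card]
    exact Set.ncard_image_of_injective _ (fun a b h => (Prod.ext_iff.mp h).1)
  have hX2 : ((fun b => ((1 : G), b)) '' (Bs \ {1})).ncard = Bs.ncard - 1 := by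
    rw [← hB0card]
    exact Set.ncard_image_of_injective _ (fun a b h => (Prod.ext_iff.mp h).2)
  have hX3 : ((fun p : G × G => (p.2, p.1 * p.2 * p.1⁻¹)) ''
      (({d | d ∈ NS S ∧ w * d * w = d⁻¹} : Set G) ×ˢ (Bs \ {1}))).ncard =
      qm1 S * (Bs.ncard - 1) := by
    rw [← hB0card, ← hJcard, ← Set.ncard_prod]
    apply Set.InjOn.ncard_image
    rintro ⟨d, b⟩ ⟨hd, hb⟩ ⟨d', b'⟩ ⟨hd', hb'⟩ h
    simp only [Prod.mk.injEq] at h
    obtain ⟨h1, h2⟩ := h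
    subst h1
    have hb1 : b ≠ 1 := fun h => hb.2 (Set.mem_singleton_iff.mpr h)
    have := hF1 d d' b hd.1 hd.2 hd'.1 hd'.2 hb.1 hb1 h2
    rw [this]
  have hT : ((Bs ×ˢ Bs) \ {((1 : G), (1 : G))}).ncard = Bs.ncard * Bs.ncard - 1 := by
    rw [Set.ncard_sdiff_singleton_of_mem (Set.mk_mem_prod h1B h1B), Set.ncard_prod]
  have hsub : (fun b => (b, (1 : G))) '' (Bs \ {1}) ∪ (fun b => ((1 : G), b)) '' (Bs \ {1}) ∪
      (fun p : G × G => (p.2, p.1 * p.2 * p.1⁻¹)) ''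
        (({d | d ∈ NS S ∧ w * d * w = d⁻¹} : Set G) ×ˢ (Bs \ {1})) ⊆
      (Bs ×ˢ Bs) \ {((1 : G), (1 : G))} := by
    rintro p ((⟨b, hb, rfl⟩ | ⟨b, hb, rfl⟩) | ⟨⟨d, b⟩, ⟨hd, hb⟩, rfl⟩)
    · exact ⟨⟨hb.1, h1B⟩, fun h => hb.2 (Set.mem_singleton_iff.mpr (Prod.ext_iff.mp h).1)⟩
    · exact ⟨⟨h1B, hb.1⟩, fun h => hb.2 (Set.mem_singleton_iff.mpr (Prod.ext_iff.mp h).2)⟩
    · exact ⟨⟨hb.1, hconjB d b hd.1 hd.2 hb.1⟩,
        fun h => hb.2 (Set.mem_singleton_iff.mpr (Prod.ext_iff.mp h).1)⟩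
  have hd12 : Disjoint ((fun b => (b, (1 : G))) '' (Bs \ {1}))
      ((fun b => ((1 : G), b)) '' (Bs \ {1})) := by
    rw [Set.disjoint_left]
    rintro p ⟨b, hb, rfl⟩ ⟨c, hc, h⟩
    exact hb.2 (Set.mem_singleton_iff.mpr (Prod.ext_iff.mp h).1.symm)
  have hd123 : Disjoint ((fun b => (b, (1 : G))) '' (Bs \ {1}) ∪
      (fun b => ((1 : G), b)) '' (Bs \ {1}))
      ((fun p : G × G => (p.2, p.1 * p.2 * p.1⁻¹)) ''
        (({d | d ∈ NS S ∧ w * d * w = d⁻¹} : Set G) ×ˢ (Bs \ {1}))) := by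
    rw [Set.disjoint_left]
    rintro p (⟨b, hb, rfl⟩ | ⟨b, hb, rfl⟩) ⟨⟨d, c⟩, ⟨hd, hc⟩, h⟩
    · have h2 : d * c * d⁻¹ = 1 := (Prod.ext_iff.mp h).2
      exact hc.2 (Set.mem_singleton_iff.mpr (conj_eq_one_iff.mp h2))
    · have h1 : c = 1 := (Prod.ext_iff.mp h).1
      exact hc.2 (Set.mem_singleton_iff.mpr h1)
  have hcount : (Bs.ncard - 1) + (Bs.ncard - 1) + qm1 S * (Bs.ncard - 1) ≤
      Bs.ncard * Bs.ncard - 1 := by
    have e := Set.ncard_le_ncard hsub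
    rw [Set.ncard_union_eq hd123, Set.ncard_union_eq hd12, hX1, hX2, hX3, hT] at e
    exact e
  have hmeq : Bs.ncard = 1 := by
    by_contra hne
    obtain ⟨n, hn⟩ : ∃ n, Bs.ncard = n + 2 := ⟨Bs.ncard - 2, by omega⟩
    rw [hn] at hcount hm_le
    have h1 : n + 2 - 1 = n + 1 := by omega
    have h2 : (n + 2) * (n + 2) - 1 = (n + 1) * (n + 3) := by
      have : (n + 2) * (n + 2) = (n + 1) * (n + 3) + 1 := by ring
      omega
    rw [h1, h2] at hcount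
    nlinarith [Nat.mul_le_mul_right (n + 1) hm_le]
  obtain ⟨a, ha⟩ := Set.ncard_eq_one.mp hmeq
  have hya : y = a := by rw [ha] at hyB; exact hyB
  have h1a : (1 : G) = a := by rw [ha] at h1B; exact h1B
  rw [hya, ← h1a]

theorem main : StepF.{u} := by
  intro G _ _ S _ hloc hTI g hg y hy hyg
  have hginv : g⁻¹ ∉ NS S := fun h => hg (by simpa using (NS S).inv_mem h)
  have hc := hloc.coset g⁻¹ hginv
  have hpos : 0 < Nat.card {h : G // h ∈ NS S ∧ orderOf (h * g⁻¹) = 2} := by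
    rw [hc]; have := hloc.three; omega
  obtain ⟨⟨h, hh, hho⟩⟩ := (Nat.card_pos_iff.mp hpos).1
  have hwH : h * g⁻¹ ∉ NS S := by
    intro hmem
    apply hginv
    have : g⁻¹ = h⁻¹ * (h * g⁻¹) := by group
    rw [this]; exact (NS S).mul_mem ((NS S).inv_mem hh) hmem
  apply stepF_inv S hloc hTI (h * g⁻¹) hho hwH y hy
  have : (h * g⁻¹) * y * (h * g⁻¹)⁻¹ = h * (g⁻¹ * y * g) * h⁻¹ := by group
  rw [this]
  exact (NS S).mul_mem ((NS S).mul_mem hh hyg) ((NS S).inv_mem hh)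

end Cfsg.Agent.Lib.Helper72.AICStepF
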