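-- S2202 / StepH: elements of `D_w = H ∩ wHw` act fixed-point-freely on `C = C_G(S)`.
import Mathlib
import Cfsg.Agent.Lib.Helper25.AICSpec
import Cfsg.Agent.Lib.Helper72.AICStepF

set_option autoImplicit false

namespace Cfsg.Agent.Lib.Helper72.AICStepH

open Subgroup Cfsg.Agent.Lib.Helper25.AICSpec Cfsg.Agent.Lib.Helper72.AICStepF

universe u

/-- A free action of a finite group: the order of the group divides the size of an invariant
set. -/
theorem free_dvd {A α : Type*} [Group A] [MulAction A α] (X : Set α)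
    (hinv : ∀ g : A, ∀ x ∈ X, g • x ∈ X) (hfree : ∀ g : A, ∀ x ∈ X, g • x = x → g = 1) :
    Nat.card A ∣ Nat.card X := by
  obtain ⟨S, hS⟩ : ∃ S : SubMulAction A α, S.carrier = X :=
    ⟨⟨X, fun g x hx => hinv g x hx⟩, rfl⟩
  have hstab : ∀ b : S, MulAction.stabilizer A b = ⊥ := by
    intro b
    rw [Subgroup.eq_bot_iff_forall]
    intro g hg
    have h1 : g • b = b := MulAction.mem_stabilizer_iff.mp hg
    have h2 : g • (b : α) = (b : α) := congrArg Subtype.val h1
    have hb : (b : α) ∈ X := by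
      rw [← hS]
      exact b.2
    exact hfree g b hb h2
  have e := MulAction.selfEquivOrbitsQuotientProd hstab
  have h3 : Nat.card S = Nat.card (Quotient (MulAction.orbitRel A S)) * Nat.card A := by
    rw [← Nat.card_prod]
    exact Nat.card_congr e
  have h4 : Nat.card X = Nat.card S := by
    rw [← hS]
    rfl
  rw [h4, h3]
  exact Dvd.intro_left _ rfl

variable {G : Type u} [Group G]

/-- The two-sided action `(y, k) • x = y x k⁻¹` of `Y × K` on `G`. -/
@[reducible] def dcAct (Y K : Subgroup G) : MulAction (↥Y × ↥K) G where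
  smul p x := (p.1 : G) * x * (p.2 : G)⁻¹
  one_smul x := by
    show ((1 : ↥Y × ↥K).1 : G) * x * ((1 : ↥Y × ↥K).2 : G)⁻¹ = x
    simp
  mul_smul p q x := by
    show ((p * q).1 : G) * x * ((p * q).2 : G)⁻¹ =
      (p.1 : G) * ((q.1 : G) * x * (q.2 : G)⁻¹) * (p.2 : G)⁻¹
    simp [mul_assoc]

theorem main : StepH.{u} := by
  intro G _ _ S _ hloc hTI hF hG w hw hwH d hd hdw hd1 y hy hyd
  classical
  have hw2 : w * w = 1 := by
    have := pow_orderOf_eq_one w
    rwa [hw, pow_two] at this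
  have hwinv : w⁻¹ = w := inv_eq_of_mul_eq_one_left hw2
  haveI : Fact (Nat.Prime 2) := ⟨Nat.prime_two⟩
  -- no element of `H` inverts `d`
  have h4 : ∀ h ∈ NS S, h⁻¹ * d * h ≠ d⁻¹ := by
    intro h hh hinv
    obtain ⟨d0, hd0, hd0w, hc0⟩ := hloc.l4.transv w hw hwH h hh
    have hcomm : d0 * d = d * d0 := by
      have hx : d0 * d ∈ NS S := (NS S).mul_mem hd0 hd
      have hwx : w * (d0 * d) * w = d0⁻¹ * d⁻¹ := by
        have : w * (d0 * d) * w = (w * d0 * w) * (w * w)⁻¹ * (w * d * w) := by group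
        rw [this, hw2, hd0w, hdw]; group
      have h1 := hG w hw hwH (d0 * d) hx
        (by rw [hwx]; exact (NS S).mul_mem ((NS S).inv_mem hd0) ((NS S).inv_mem hd))
      rw [hwx] at h1
      have h2 : (d * d0)⁻¹ = (d0 * d)⁻¹ := by rw [mul_inv_rev d d0]; exact h1
      exact (inv_injective h2).symm
    have hc0d : (h * d0⁻¹)⁻¹ * d * (h * d0⁻¹) = d⁻¹ := by
      have e1 : (h * d0⁻¹)⁻¹ * d * (h * d0⁻¹) = d0 * (h⁻¹ * d * h) * d0⁻¹ := by group
      rw [e1, hinv]
      have e2 : d0 * d⁻¹ * d0⁻¹ = (d0 * d * d0⁻¹)⁻¹ := by group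
      rw [e2, hcomm]; group
    have hd2C : d * d ∈ CS S := by
      have e : d * d = (d * (h * d0⁻¹) * d⁻¹)⁻¹ * (h * d0⁻¹) := by
        have e' : (d * (h * d0⁻¹) * d⁻¹)⁻¹ * (h * d0⁻¹) =
            d * ((h * d0⁻¹)⁻¹ * d * (h * d0⁻¹))⁻¹ := by group
        rw [e', hc0d, inv_inv]
      rw [e]
      exact (CS S).mul_mem ((CS S).inv_mem (conj_mem_CS hd hc0)) hc0
    have hd2 : d * d = 1 := by
      apply hF w hwH (d * d) hd2C
      rw [hwinv]
      have : w * (d * d) * w = (w * d * w) * (w * w)⁻¹ * (w * d * w) := by group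
      rw [this, hw2, hdw, inv_one, mul_one]
      exact (NS S).mul_mem ((NS S).inv_mem hd) ((NS S).inv_mem hd)
    have hdo : orderOf d = 2 := orderOf_eq_prime (by rw [pow_two]; exact hd2) hd1
    have hdS : d ∈ S := hloc.l1.inv_mem d hd hdo
    have hdC : d ∈ CS S := hloc.l1.le hdS
    apply hd1
    apply hF w hwH d hdC
    rw [hwinv, hdw]; exact (NS S).inv_mem hd
  -- the centralizer of `d`
  have hXmem : ∀ x, x ∈ centralizer ({d} : Set G) ↔ d * x = x * d := by
    intro x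
    rw [mem_centralizer_iff]
    constructor
    · intro h; exact h d (Set.mem_singleton d)
    · intro h z hz; rw [Set.mem_singleton_iff] at hz; rw [hz]; exact h
  have hdw1 : w * d * w⁻¹ = d⁻¹ := by rw [hwinv]; exact hdw
  have hwX : ∀ k ∈ centralizer ({d} : Set G), w * k * w⁻¹ ∈ centralizer ({d} : Set G) := by
    intro k hk
    rw [hXmem] at hk ⊢
    have e : d⁻¹ * (w * k * w⁻¹) = (w * k * w⁻¹) * d⁻¹ := by
      rw [← hdw1]
      calc w * d * w⁻¹ * (w * k * w⁻¹) = w * (d * k) * w⁻¹ := by group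
        _ = w * (k * d) * w⁻¹ := by rw [hk]
        _ = w * k * w⁻¹ * (w * d * w⁻¹) := by group
    calc d * (w * k * w⁻¹) = d * ((w * k * w⁻¹) * d⁻¹) * d := by group
      _ = d * (d⁻¹ * (w * k * w⁻¹)) * d := by rw [e]
      _ = (w * k * w⁻¹) * d := by group
  have hyX : y ∈ centralizer ({d} : Set G) := by
    rw [hXmem]
    calc d * y = d * (d⁻¹ * y * d) := by rw [hyd]
      _ = y * d := by group
  letI : MulAction (↥(CS S ⊓ centralizer ({d} : Set G)) × ↥(centralizer ({d} : Set G) ⊓ NS S)) G :=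
    dcAct _ _
  have hsm : ∀ (p : ↥(CS S ⊓ centralizer ({d} : Set G)) × ↥(centralizer ({d} : Set G) ⊓ NS S))
      (x : G), p • x = (p.1 : G) * x * (p.2 : G)⁻¹ := fun _ _ => rfl
  -- common part of the freeness arguments
  have hfree : ∀ (p : ↥(CS S ⊓ centralizer ({d} : Set G)) × ↥(centralizer ({d} : Set G) ⊓ NS S))
      (x : G), x ∉ NS S → p • x = x → p = 1 := by
    rintro ⟨⟨y', hy'⟩, ⟨k, hk⟩⟩ x hxH hfix
    rw [hsm] at hfix
    have hfix' : y' * x * k⁻¹ = x := hfix
    have h1 : y' * x = x * k := mul_inv_eq_iff_eq_mul.mp hfix'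
    have e : x⁻¹ * y' * x = k := by
      calc x⁻¹ * y' * x = x⁻¹ * (y' * x) := by group
        _ = x⁻¹ * (x * k) := by rw [h1]
        _ = k := by group
    have hy1 : y' = 1 := hF x hxH y' (mem_inf.mp hy').1 (by rw [e]; exact (mem_inf.mp hk).2)
    have hk1 : k = 1 := by
      rw [hy1, one_mul] at h1
      have : x * k = x * 1 := by rw [mul_one]; exact h1.symm
      exact mul_left_cancel this
    exact Prod.ext (Subtype.ext hy1) (Subtype.ext hk1)
  have hdvd1 := free_dvd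
    (A := ↥(CS S ⊓ centralizer ({d} : Set G)) × ↥(centralizer ({d} : Set G) ⊓ NS S))
    ({x | x ∈ centralizer ({d} : Set G) ∧ x ∉ NS S} : Set G)
    (by
      rintro ⟨⟨y', hy'⟩, ⟨k, hk⟩⟩ x ⟨hxX, hxH⟩
      rw [hsm]
      refine ⟨mul_mem (mul_mem (mem_inf.mp hy').2 hxX) (inv_mem (mem_inf.mp hk).1), ?_⟩
      intro hmem
      apply hxH
      have : x = y'⁻¹ * (y' * x * k⁻¹) * k := by group
      rw [this]
      exact (NS S).mul_mem ((NS S).mul_mem ((NS S).inv_mem (hloc.l1.cle (mem_inf.mp hy').1)) hmem)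
        (mem_inf.mp hk).2)
    (by
      rintro p x ⟨_, hxH⟩ hfix
      exact hfree p x hxH hfix)
  have hdvd2 := free_dvd
    (A := ↥(CS S ⊓ centralizer ({d} : Set G)) × ↥(centralizer ({d} : Set G) ⊓ NS S))
    ({z | z * w⁻¹ ∈ centralizer ({d} : Set G)} : Set G)
    (by
      rintro ⟨⟨y', hy'⟩, ⟨k, hk⟩⟩ x hx
      rw [hsm]
      show y' * x * k⁻¹ * w⁻¹ ∈ centralizer ({d} : Set G)
      have : y' * x * k⁻¹ * w⁻¹ = y' * (x * w⁻¹) * (w * k⁻¹ * w⁻¹) := by group
      rw [this]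
      exact mul_mem (mul_mem (mem_inf.mp hy').2 hx) (hwX _ (inv_mem (mem_inf.mp hk).1)))
    (by
      rintro p x hx hfix
      apply hfree p x _ hfix
      intro hxH
      apply h4 x hxH
      have hx0 : d * (x * w⁻¹) = (x * w⁻¹) * d := (hXmem _).mp hx
      calc x⁻¹ * d * x = w⁻¹ * ((x * w⁻¹)⁻¹ * (d * (x * w⁻¹))) * w := by group
        _ = w⁻¹ * ((x * w⁻¹)⁻¹ * ((x * w⁻¹) * d)) * w := by rw [hx0]
        _ = w⁻¹ * d * w := by group
        _ = d⁻¹ := by rw [hwinv, hdw])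
  -- the cardinalities
  have hc1 : Nat.card ({x | x ∈ centralizer ({d} : Set G) ∧ x ∉ NS S} : Set G) =
      Nat.card (centralizer ({d} : Set G)) - Nat.card ↥(centralizer ({d} : Set G) ⊓ NS S) := by
    have hset : ({x | x ∈ centralizer ({d} : Set G) ∧ x ∉ NS S} : Set G) =
        ((centralizer ({d} : Set G) : Subgroup G) : Set G) \
          ((centralizer ({d} : Set G) ⊓ NS S : Subgroup G) : Set G) := by
      ext x
      simp only [Set.mem_ofPred_eq, Set.mem_sdiff, SetLike.mem_coe, mem_inf, not_and]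
      constructor
      · rintro ⟨h1, h2⟩; exact ⟨h1, fun _ => h2⟩
      · rintro ⟨h1, h2⟩; exact ⟨h1, h2 h1⟩
    rw [Nat.card_coe_set_eq, hset, Set.ncard_sdiff (fun x hx => (mem_inf.mp hx).1)]
    rfl
  have hc2 : Nat.card ({z | z * w⁻¹ ∈ centralizer ({d} : Set G)} : Set G) =
      Nat.card (centralizer ({d} : Set G)) := by
    apply Nat.card_congr
    exact ⟨fun z => ⟨z.1 * w⁻¹, z.2⟩,
      fun x => ⟨x.1 * w, by
        show x.1 * w * w⁻¹ ∈ centralizer ({d} : Set G)
        rw [mul_inv_cancel_right]; exact x.2⟩,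
      fun z => by ext; simp, fun x => by ext; simp⟩
  rw [hc1, Nat.card_prod] at hdvd1
  rw [hc2, Nat.card_prod] at hdvd2
  have hle : Nat.card ↥(centralizer ({d} : Set G) ⊓ NS S) ≤ Nat.card (centralizer ({d} : Set G)) :=
    Subgroup.card_le_of_le inf_le_left
  have hpos : 0 < Nat.card ↥(centralizer ({d} : Set G) ⊓ NS S) := Nat.card_pos
  have hdvd3 := Nat.dvd_sub hdvd2 hdvd1
  have hsub : Nat.card (centralizer ({d} : Set G)) -
      (Nat.card (centralizer ({d} : Set G)) - Nat.card ↥(centralizer ({d} : Set G) ⊓ NS S)) =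
      1 * Nat.card ↥(centralizer ({d} : Set G) ⊓ NS S) := by omega
  rw [hsub] at hdvd3
  have hm : Nat.card ↥(CS S ⊓ centralizer ({d} : Set G)) = 1 :=
    Nat.dvd_one.mp (Nat.dvd_of_mul_dvd_mul_right hpos hdvd3)
  have hsubs : Subsingleton ↥(CS S ⊓ centralizer ({d} : Set G)) :=
    (Nat.card_eq_one_iff_unique.mp hm).1
  have := Subsingleton.elim (⟨y, mem_inf.mpr ⟨hy, hyX⟩⟩ : ↥(CS S ⊓ centralizer ({d} : Set G))) 1
  exact congrArg Subtype.val this

end Cfsg.Agent.Lib.Helper72.AICStepH
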