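import Mathlib
import Cfsg.Agent.Lib.Helper10.C2MStmt

/-!
# S5990C / PLANE0M (helper10's sub-call): singular `e`, `f` with `β(e, f) ≠ 0` span a
nondegenerate plus-type plane, minus form (any characteristic).  Port of `Helper72.C2PLANE0`.
-/

set_option autoImplicit false

universe u

namespace Cfsg.Agent.Lib.Helper72.C2MPLANE0M

open Cfsg.Agent.Lib.Helper45.OMiStmt (M Aniso NDegM StabM)
open Cfsg.Agent.Lib.Helper41.TMTwoStmt (PlusM)
open Cfsg.Agent.Lib.Helper10.C2MStmt

section gen

variable {F : Type u} [Field F] {m : ℕ} (a b : F)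

theorem polar_eq (u v : (Fin m ⊕ Fin m) ⊕ Fin 2 → F) :
    QuadraticMap.polar (Cfsg.quadFormMinus m F a b) u v
      = (∑ i : Fin m, (u (.inl (.inl i)) * v (.inl (.inr i))
            + v (.inl (.inl i)) * u (.inl (.inr i))))
        + (2 * u (.inr 0) * v (.inr 0) + a * (u (.inr 0) * v (.inr 1) + v (.inr 0) * u (.inr 1))
            + 2 * b * u (.inr 1) * v (.inr 1)) := by
  simp only [QuadraticMap.polar, Cfsg.quadFormMinus, Pi.add_apply]
  have h : ∑ i : Fin m, (u (.inl (.inl i)) + v (.inl (.inl i)))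
        * (u (.inl (.inr i)) + v (.inl (.inr i)))
      = (∑ i : Fin m, u (.inl (.inl i)) * u (.inl (.inr i)))
        + (∑ i : Fin m, v (.inl (.inl i)) * v (.inl (.inr i)))
        + ∑ i : Fin m, (u (.inl (.inl i)) * v (.inl (.inr i))
            + v (.inl (.inl i)) * u (.inl (.inr i))) := by
    rw [← Finset.sum_add_distrib, ← Finset.sum_add_distrib]
    refine Finset.sum_congr rfl (fun i _ => by ring)
  rw [h]
  ring

theorem polar_add_left (u u' v : (Fin m ⊕ Fin m) ⊕ Fin 2 → F) :
    QuadraticMap.polar (Cfsg.quadFormMinus m F a b) (u + u') v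
      = QuadraticMap.polar (Cfsg.quadFormMinus m F a b) u v
        + QuadraticMap.polar (Cfsg.quadFormMinus m F a b) u' v := by
  rw [polar_eq, polar_eq, polar_eq]
  have h : ∑ i : Fin m, ((u + u') (.inl (.inl i)) * v (.inl (.inr i))
        + v (.inl (.inl i)) * (u + u') (.inl (.inr i)))
      = (∑ i : Fin m, (u (.inl (.inl i)) * v (.inl (.inr i))
            + v (.inl (.inl i)) * u (.inl (.inr i))))
        + ∑ i : Fin m, (u' (.inl (.inl i)) * v (.inl (.inr i))
            + v (.inl (.inl i)) * u' (.inl (.inr i))) := by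
    rw [← Finset.sum_add_distrib]
    refine Finset.sum_congr rfl (fun i _ => by simp only [Pi.add_apply]; ring)
  rw [h]
  simp only [Pi.add_apply]
  ring

theorem polar_smul_left (c : F) (u v : (Fin m ⊕ Fin m) ⊕ Fin 2 → F) :
    QuadraticMap.polar (Cfsg.quadFormMinus m F a b) (c • u) v
      = c * QuadraticMap.polar (Cfsg.quadFormMinus m F a b) u v := by
  rw [polar_eq, polar_eq]
  have h : ∑ i : Fin m, ((c • u) (.inl (.inl i)) * v (.inl (.inr i))
        + v (.inl (.inl i)) * (c • u) (.inl (.inr i)))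
      = c * ∑ i : Fin m, (u (.inl (.inl i)) * v (.inl (.inr i))
            + v (.inl (.inl i)) * u (.inl (.inr i))) := by
    rw [Finset.mul_sum]
    refine Finset.sum_congr rfl (fun i _ => by simp only [Pi.smul_apply, smul_eq_mul]; ring)
  rw [h]
  simp only [Pi.smul_apply, smul_eq_mul]
  ring

theorem polar_self (u : (Fin m ⊕ Fin m) ⊕ Fin 2 → F) :
    QuadraticMap.polar (Cfsg.quadFormMinus m F a b) u u
      = 2 * Cfsg.quadFormMinus m F a b u := by
  rw [polar_eq, Cfsg.quadFormMinus]
  have h : ∑ i : Fin m, (u (.inl (.inl i)) * u (.inl (.inr i))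
        + u (.inl (.inl i)) * u (.inl (.inr i)))
      = 2 * ∑ i : Fin m, u (.inl (.inl i)) * u (.inl (.inr i)) := by
    rw [Finset.mul_sum]
    refine Finset.sum_congr rfl (fun i _ => by ring)
  rw [h]
  ring

theorem polar_zero_left (v : (Fin m ⊕ Fin m) ⊕ Fin 2 → F) :
    QuadraticMap.polar (Cfsg.quadFormMinus m F a b) (0 : (Fin m ⊕ Fin m) ⊕ Fin 2 → F) v = 0 := by
  rw [polar_eq]
  simp

theorem Q_smul (c : F) (u : (Fin m ⊕ Fin m) ⊕ Fin 2 → F) :
    Cfsg.quadFormMinus m F a b (c • u) = c * c * Cfsg.quadFormMinus m F a b u := by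
  simp only [Cfsg.quadFormMinus, Pi.smul_apply, smul_eq_mul]
  have h : ∑ i : Fin m, c * u (.inl (.inl i)) * (c * u (.inl (.inr i)))
      = c * c * ∑ i : Fin m, u (.inl (.inl i)) * u (.inl (.inr i)) := by
    rw [Finset.mul_sum]
    refine Finset.sum_congr rfl (fun i _ => by ring)
  rw [h]
  ring

end gen

theorem main : Plane0M.{u} := by
  intro F _ _ a₀ b₀ _ d e f he hf hef
  have hfe : QuadraticMap.polar (Cfsg.quadFormMinus (d - 1) F a₀ b₀) f e ≠ 0 := by
    rwa [QuadraticMap.polar_comm]
  have hee : QuadraticMap.polar (Cfsg.quadFormMinus (d - 1) F a₀ b₀) e e = 0 := by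
    rw [polar_self, he, mul_zero]
  have hff : QuadraticMap.polar (Cfsg.quadFormMinus (d - 1) F a₀ b₀) f f = 0 := by
    rw [polar_self, hf, mul_zero]
  have key1 : ∀ a b : F,
      QuadraticMap.polar (Cfsg.quadFormMinus (d - 1) F a₀ b₀) (a • e + b • f) e
        = b * QuadraticMap.polar (Cfsg.quadFormMinus (d - 1) F a₀ b₀) f e := by
    intro a b
    rw [polar_add_left, polar_smul_left, polar_smul_left, hee, mul_zero, zero_add]
  have key2 : ∀ a b : F,
      QuadraticMap.polar (Cfsg.quadFormMinus (d - 1) F a₀ b₀) (a • e + b • f) f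
        = a * QuadraticMap.polar (Cfsg.quadFormMinus (d - 1) F a₀ b₀) e f := by
    intro a b
    rw [polar_add_left, polar_smul_left, polar_smul_left, hff, mul_zero, add_zero]
  have hemem : e ∈ Submodule.span F ({e, f} : Set (M d → F)) :=
    Submodule.subset_span (by simp)
  have hfmem : f ∈ Submodule.span F ({e, f} : Set (M d → F)) :=
    Submodule.subset_span (by simp)
  have he0 : e ≠ 0 := by
    rintro rfl
    exact hef (polar_zero_left a₀ b₀ f)
  have hli : LinearIndependent F ![e, f] := by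
    rw [LinearIndependent.pair_iff]
    intro a b hab
    have h1 := key1 a b
    have h2 := key2 a b
    rw [hab, polar_zero_left] at h1 h2
    refine ⟨?_, ?_⟩
    · rcases mul_eq_zero.mp h2.symm with h | h
      · exact h
      · exact absurd h hef
    · rcases mul_eq_zero.mp h1.symm with h | h
      · exact h
      · exact absurd h hfe
  have hfr : Module.finrank F ↥(Submodule.span F ({e, f} : Set (M d → F))) = 2 := by
    have h := finrank_span_eq_card hli
    rw [Matrix.range_cons_cons_empty] at h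
    simpa using h
  refine ⟨?_, ?_, hfr⟩
  · intro w hw hw0
    obtain ⟨a, b, rfl⟩ := Submodule.mem_span_pair.mp hw
    by_cases ha : a = 0
    · have hb : b ≠ 0 := by
        rintro rfl
        apply hw0
        simp [ha]
      refine ⟨⟨e, hemem, ?_⟩, ⟨e, hemem, ?_⟩⟩
      · rw [QuadraticMap.polar_comm, key1]
        exact mul_ne_zero hb hfe
      · rw [key1]
        exact mul_ne_zero hb hfe
    · refine ⟨⟨f, hfmem, ?_⟩, ⟨f, hfmem, ?_⟩⟩
      · rw [QuadraticMap.polar_comm, key2]
        exact mul_ne_zero ha hef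
      · rw [key2]
        exact mul_ne_zero ha hef
  · refine ⟨Submodule.span F ({e} : Set (M d → F)), Submodule.span_mono (by simp), ?_, ?_⟩
    · intro w hw
      obtain ⟨c, rfl⟩ := Submodule.mem_span_singleton.mp hw
      rw [Q_smul, he, mul_zero]
    · rw [finrank_span_singleton he0, hfr]

end Cfsg.Agent.Lib.Helper72.C2MPLANE0M
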