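import Mathlib
import Cfsg.Agent.Lib.Helper30.CTIStmt

/-!
# S4064 / QC1 (helper30's call; second seat)
-/

set_option autoImplicit false
universe u

namespace Cfsg.Agent.Lib.Helper72.CTIQC1

open Cfsg.Agent.Lib.Helper30.CTIStmt

/-- the join of two elementwise commuting subgroups of coprime orders is their direct product -/
theorem prodEquiv {G : Type u} [Group G] (E C Q : Subgroup G) (hE : C ⊔ Q = E)
    (hcomm : ∀ a ∈ C, ∀ b ∈ Q, a * b = b * a)
    (hcop : Nat.Coprime (Nat.card C) (Nat.card Q)) : Nonempty (↥C × ↥Q ≃* ↥E) := by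
  have comm : ∀ (m : ↥C) (n : ↥Q), Commute (C.subtype m) (Q.subtype n) :=
    fun m n => hcomm m m.2 n n.2
  have hinj : Function.Injective (C.subtype.noncommCoprod Q.subtype comm) := by
    rw [MonoidHom.noncommCoprod_injective]
    refine ⟨C.subtype_injective, Q.subtype_injective, ?_⟩
    rw [Subgroup.range_subtype, Subgroup.range_subtype]
    exact Subgroup.disjoint_of_coprime_natCard hcop
  have hrange : (C.subtype.noncommCoprod Q.subtype comm).range = E := by
    rw [MonoidHom.noncommCoprod_range, Subgroup.range_subtype, Subgroup.range_subtype, hE]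
  exact ⟨(MonoidHom.ofInjective hinj).trans (MulEquiv.subgroupCongr hrange)⟩

theorem card_quat (n : ℕ) [NeZero n] {Q : Type u} [Group Q]
    (e : Q ≃* QuaternionGroup n) : Nat.card Q = 4 * n := by
  rw [Nat.card_congr e.toEquiv, Nat.card_eq_fintype_card, QuaternionGroup.card]

theorem main : Cfsg.Agent.Lib.Helper30.CTIStmt.QC1.{u} := by
  intro G _ _ E C Q hE hcomm hcyc hodd ⟨eQ⟩
  have hQ : Nat.card Q = 4 * 2 := card_quat 2 eQ
  have hcop : Nat.Coprime (Nat.card C) (Nat.card Q) := by
    rw [hQ]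
    have h2 : Nat.Coprime (Nat.card C) 2 := Nat.coprime_two_right.mpr hodd
    exact Nat.Coprime.pow_right 3 h2
  obtain ⟨e⟩ := prodEquiv E C Q hE hcomm hcop
  exact ⟨Nat.card C, hodd, ⟨e.symm.trans (MulEquiv.prodCongr (zmodCyclicMulEquiv hcyc).symm eQ)⟩⟩

end Cfsg.Agent.Lib.Helper72.CTIQC1
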