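import Mathlib
import Cfsg.Agent.Lib.Helper30.CTIStmt
import Cfsg.Agent.Lib.Helper72.CTIQC1

/-!
# S4064 / QC0 (helper30's call; second seat)
-/

set_option autoImplicit false
universe u

namespace Cfsg.Agent.Lib.Helper72.CTIQC0

open Cfsg.Agent.Lib.Helper30.CTIStmt Cfsg.Agent.Lib.Helper72.CTIQC1

theorem main : Cfsg.Agent.Lib.Helper30.CTIStmt.QC0.{u} := by
  intro G _ _ E C Q hE hcomm hcyc hodd ⟨eQ⟩
  have hQ : Nat.card Q = 4 * 1 := card_quat 1 eQ
  have hcop : Nat.Coprime (Nat.card C) (Nat.card Q) := by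
    rw [hQ]
    have h2 : Nat.Coprime (Nat.card C) 2 := Nat.coprime_two_right.mpr hodd
    exact Nat.Coprime.pow_right 2 h2
  obtain ⟨e⟩ := prodEquiv E C Q hE hcomm hcop
  have hQc : IsCyclic ↥Q := (MulEquiv.isCyclic eQ).mpr QuaternionGroup.quaternionGroup_one_isCyclic
  have hprod : IsCyclic (↥C × ↥Q) := Group.isCyclic_prod_iff.mpr ⟨hcyc, hQc, hcop⟩
  exact (MulEquiv.isCyclic e).mp hprod

end Cfsg.Agent.Lib.Helper72.CTIQC0
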