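import Mathlib
import Cfsg.Agent.Lib.Helper57.FTStmt

set_option autoImplicit false

/-! S3999 piece FPF (second seat, helper72): the complement acts fixed point freely. -/

namespace Cfsg.Agent.Lib.Helper72.FTFPF

open Cfsg.Agent.Lib.Helper57.FTStmt

universe u

theorem main : Fpf.{u} := by
  intro Y _ _ N C hcop hdiv c hc hc1
  rw [Subgroup.eq_bot_iff_forall]
  intro k hk
  by_contra hk1
  obtain ⟨hkN, hkc⟩ := Subgroup.mem_inf.1 hk
  have hcomm : Commute c k := Subgroup.mem_centralizer_iff.1 hkc c (Set.mem_singleton c)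
  have hok : orderOf k ∣ Nat.card N := Subgroup.orderOf_dvd_natCard N hkN
  have hoc : orderOf c ∣ Nat.card C := Subgroup.orderOf_dvd_natCard C hc
  have hcop' : (orderOf c).Coprime (orderOf k) :=
    Nat.Coprime.coprime_dvd_left hoc (Nat.Coprime.coprime_dvd_right hok hcop.symm)
  have hmul : orderOf (c * k) = orderOf c * orderOf k :=
    hcomm.orderOf_mul_eq_mul_orderOf_of_coprime hcop'
  rcases hdiv (c * k) with h | h
  · rw [hmul] at h
    have h2 : orderOf c ∣ Nat.card N := (Dvd.intro _ rfl).trans h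
    have h3 : orderOf c = 1 := Nat.eq_one_of_dvd_coprimes hcop h2 hoc
    exact hc1 (orderOf_eq_one_iff.1 h3)
  · rw [hmul] at h
    have h2 : orderOf k ∣ Nat.card C := (Dvd.intro_left _ rfl).trans h
    have h3 : orderOf k = 1 := Nat.eq_one_of_dvd_coprimes hcop hok h2
    exact hk1 (orderOf_eq_one_iff.1 h3)

end Cfsg.Agent.Lib.Helper72.FTFPF
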