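import Mathlib
import Cfsg.Agent.Lib.Helper99.SylAct
import Cfsg.Agent.Lib.Helper99.SylAct2

/-!
Towards "no finite group has exactly 22 Sylow 3-subgroups" (helper72).
Part a: intersections of Sylow 3-subgroups, adjacency, the triangle lemma.
-/

set_option autoImplicit false
set_option linter.style.haveILetI false
set_option linter.unusedSectionVars false
set_option linter.unusedVariables false

namespace Cfsg.Agent.Lib.Helper72.N3
open Subgroup MulAction Cfsg.Agent.Lib.Helper99.SylAct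

universe u

variable {G : Type u} [Group G] [Finite G]

/-- membership in a conjugate Sylow subgroup -/
theorem mem_smul_sylow {p : ℕ} (S : Sylow p G) (x d : G) :
    d ∈ ((x • S : Sylow p G) : Subgroup G) ↔ x⁻¹ * d * x ∈ (S : Subgroup G) := by
  rw [Sylow.coe_subgroup_smul, Subgroup.mem_pointwise_smul_iff_inv_smul_mem]
  simp [MulAut.smul_def]

/-- order of the intersection of two Sylow 3-subgroups -/
noncomputable def ci (P Q : Sylow 3 G) : ℕ := Nat.card ((P : Subgroup G) ⊓ Q : Subgroup G)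

lemma card_eq (P Q : Sylow 3 G) : Nat.card P = Nat.card Q := by
  rw [P.card_eq_multiplicity, Q.card_eq_multiplicity]

lemma card_pos' (P : Sylow 3 G) : 0 < Nat.card P := Nat.card_pos

lemma ci_pos (P Q : Sylow 3 G) : 0 < ci P Q := Nat.card_pos

lemma ci_comm (P Q : Sylow 3 G) : ci P Q = ci Q P := by unfold ci; rw [inf_comm]

lemma ci_self (P : Sylow 3 G) : ci P P = Nat.card P := by unfold ci; rw [inf_idem]

lemma ci_smul (g : G) (P Q : Sylow 3 G) : ci (g • P) (g • Q) = ci P Q := by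
  unfold ci
  rw [Sylow.coe_subgroup_smul, Sylow.coe_subgroup_smul, ← Subgroup.smul_inf]
  exact Nat.card_congr (Subgroup.equivSMul (MulAut.conj g) _).symm.toEquiv

lemma card_mul_relIndex' {H K : Subgroup G} (h : H ≤ K) :
    Nat.card H * H.relIndex K = Nat.card K := by
  have h2 := Subgroup.relIndex_mul_relIndex (⊥ : Subgroup G) H K bot_le h
  rw [Subgroup.relIndex_bot_left, Subgroup.relIndex_bot_left] at h2
  exact h2

lemma ncard_orbit (P Q : Sylow 3 G) :
    (orbit (P : Subgroup G) Q).ncard = ((P : Subgroup G) ⊓ Q).relIndex P := by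
  rw [ncard_orbit_subgroup, ← Subgroup.inf_relIndex_right, inf_comm, P.2.inf_normalizer_sylow Q]

lemma ci_mul_orbit (P Q : Sylow 3 G) :
    ci P Q * (orbit (P : Subgroup G) Q).ncard = Nat.card P := by
  rw [ncard_orbit]
  exact card_mul_relIndex' inf_le_left

/-- a subgroup of the normalizer of `P` does not move another Sylow subgroup to `P` -/
lemma not_mem_orbit {p : ℕ} (H : Subgroup G) (P Q : Sylow p G) (hH : H ≤ normalizer (P : Set G))
    (hPQ : P ≠ Q) : P ∉ orbit H Q := by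
  rintro ⟨x, hx⟩
  apply hPQ
  have h1 : (x⁻¹ : H) • P = P := by
    rw [Subgroup.smul_def, Sylow.smul_eq_iff_mem_normalizer]
    exact hH (x⁻¹).2
  have hx' : x • Q = P := hx
  calc P = (x⁻¹ : H) • P := h1.symm
    _ = (x⁻¹ : H) • (x • Q) := by rw [hx']
    _ = Q := inv_smul_smul x Q

lemma smul_self {p : ℕ} (P : Sylow p G) {x : G} (hx : x ∈ (P : Subgroup G)) : x • P = P :=
  Sylow.smul_eq_iff_mem_normalizer.mpr (le_normalizer hx)

/-- orbits of a Sylow 3-subgroup on the others have 3 or 9 elements -/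
lemma orbit_cases (h22 : Nat.card (Sylow 3 G) = 22) (P Q : Sylow 3 G) (hPQ : P ≠ Q) :
    (orbit (P : Subgroup G) Q).ncard = 3 ∨ (orbit (P : Subgroup G) Q).ncard = 9 := by
  obtain ⟨n, hn⟩ := P.2.card_orbit Q
  rw [Nat.card_coe_set_eq] at hn
  have hPnot : P ∉ orbit (P : Subgroup G) Q := not_mem_orbit _ P Q le_normalizer hPQ
  have hle : (orbit (P : Subgroup G) Q).ncard ≤ 21 := by
    have h1 : orbit (P : Subgroup G) Q ⊆ ({P} : Set (Sylow 3 G))ᶜ := by
      intro R hR
      rw [Set.mem_compl_iff, Set.mem_singleton_iff]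
      rintro rfl
      exact hPnot hR
    have h2 := Set.ncard_le_ncard h1 (Set.toFinite _)
    rw [Set.ncard_compl ({P} : Set (Sylow 3 G)), Set.ncard_singleton, h22] at h2
    exact h2
  have hne1 : (orbit (P : Subgroup G) Q).ncard ≠ 1 := by
    intro h1
    rw [ncard_orbit_subgroup, Subgroup.relIndex_eq_one] at h1
    exact hPQ (Sylow.ext (P.3 Q.2 (le_sylow_of_le_normalizer P.2 Q h1))).symm
  rw [hn] at hle hne1 ⊢
  rcases n with _ | _ | _ | n
  · simp at hne1
  · left; norm_num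
  · right; norm_num
  · exfalso
    have : 3 ^ 3 ≤ 3 ^ (n + 1 + 1 + 1) := Nat.pow_le_pow_right (by norm_num) (by omega)
    omega

/-- adjacency: the intersection has index 3 -/
def Adj (P Q : Sylow 3 G) : Prop := ci P Q * 3 = Nat.card P

lemma adj_or (h22 : Nat.card (Sylow 3 G) = 22) (P Q : Sylow 3 G) (hPQ : P ≠ Q) :
    Adj P Q ∨ ci P Q * 9 = Nat.card P := by
  have h := ci_mul_orbit P Q
  rcases orbit_cases h22 P Q hPQ with h1 | h1
  · left; rw [h1] at h; exact h
  · right; rw [h1] at h; exact h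

lemma adj_comm {P Q : Sylow 3 G} : Adj P Q ↔ Adj Q P := by
  unfold Adj; rw [ci_comm, card_eq P Q]

lemma adj_ne {P Q : Sylow 3 G} (h : Adj P Q) : P ≠ Q := by
  rintro rfl
  unfold Adj at h
  rw [ci_self] at h
  have := card_pos' P
  omega

lemma adj_smul (g : G) {P Q : Sylow 3 G} : Adj (g • P) (g • Q) ↔ Adj P Q := by
  unfold Adj; rw [ci_smul, card_eq (g • P) P]

lemma not_adj_of_far {P Q : Sylow 3 G} (h : ci P Q * 9 = Nat.card P) : ¬ Adj P Q := by
  intro h'
  unfold Adj at h'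
  have := ci_pos P Q
  omega

/-- two distinct Sylow subgroups containing a subgroup of index 3 are adjacent and meet in it -/
lemma adj_of_le (h22 : Nat.card (Sylow 3 G) = 22) {P Q : Sylow 3 G} (hPQ : P ≠ Q)
    (D : Subgroup G) (hD : D ≤ (P : Subgroup G) ⊓ Q) (hc : Nat.card D * 3 = Nat.card P) :
    Adj P Q ∧ (P : Subgroup G) ⊓ Q = D := by
  have hle : Nat.card D ≤ ci P Q := Subgroup.card_le_of_le hD
  have hpos := ci_pos P Q
  have hA : Adj P Q := by
    rcases adj_or h22 P Q hPQ with h | h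
    · exact h
    · exfalso; omega
  refine ⟨hA, ?_⟩
  symm
  apply Subgroup.eq_of_le_of_card_ge hD
  unfold Adj ci at hA
  omega

/-- if `P` and `Q` are adjacent then `P ∩ Q` is normal in `P` -/
lemma adj_conj_mem {P Q : Sylow 3 G} (hA : Adj P Q) {x d : G} (hx : x ∈ (P : Subgroup G))
    (hd : d ∈ (P : Subgroup G) ⊓ Q) : x * d * x⁻¹ ∈ (P : Subgroup G) ⊓ Q := by
  have hrel : ((P : Subgroup G) ⊓ Q).relIndex P = 3 := by
    have h1 := card_mul_relIndex' (inf_le_left : (P : Subgroup G) ⊓ Q ≤ P)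
    have h2 : Nat.card ((P : Subgroup G) ⊓ Q : Subgroup G) * 3 = Nat.card P := hA
    have hpos : 0 < Nat.card ((P : Subgroup G) ⊓ Q : Subgroup G) := Nat.card_pos
    have : Nat.card ((P : Subgroup G) ⊓ Q : Subgroup G) * ((P : Subgroup G) ⊓ Q).relIndex P
        = Nat.card ((P : Subgroup G) ⊓ Q : Subgroup G) * 3 := by rw [h1, h2]
    exact Nat.eq_of_mul_eq_mul_left hpos this
  have hminfac : (Nat.card (P : Subgroup G)).minFac = 3 := by
    obtain ⟨k, hk⟩ := P.2.exists_card_eq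
    have hk0 : k ≠ 0 := by
      rintro rfl
      rw [pow_zero] at hk
      have h2 : Nat.card ((P : Subgroup G) ⊓ Q : Subgroup G) * 3 = Nat.card P := hA
      rw [hk] at h2
      omega
    rw [hk]
    exact Nat.Prime.pow_minFac (by norm_num) hk0
  have hnorm : (((P : Subgroup G) ⊓ Q).subgroupOf P).Normal :=
    Subgroup.normal_of_index_eq_minFac_card (by rw [hminfac]; exact hrel)
  have hd' : (⟨d, hd.1⟩ : (P : Subgroup G)) ∈ ((P : Subgroup G) ⊓ Q).subgroupOf P := by
    rw [mem_subgroupOf]; exact hd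
  have h2 := hnorm.conj_mem _ hd' ⟨x, hx⟩
  rw [mem_subgroupOf] at h2
  exact h2

/-- if `P` and `Q` are adjacent then `P ∩ Q` lies in every `P`-conjugate of `Q` -/
lemma adj_le_smul {P Q : Sylow 3 G} (hA : Adj P Q) {x : G} (hx : x ∈ (P : Subgroup G)) :
    (P : Subgroup G) ⊓ Q ≤ ((x • Q : Sylow 3 G) : Subgroup G) := by
  intro d hd
  rw [mem_smul_sylow]
  have h := adj_conj_mem hA (inv_mem hx) hd
  rw [inv_inv] at h
  exact h.2

/-- the `P`-conjugates of a neighbour `Q` of `P` are neighbours of `P` and of `Q` -/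
lemma adj_smul_of_mem (h22 : Nat.card (Sylow 3 G) = 22) {P Q : Sylow 3 G} (hA : Adj P Q) {x : G}
    (hx : x ∈ (P : Subgroup G)) (hne : x • Q ≠ Q) :
    Adj Q (x • Q) ∧ Adj P (x • Q) ∧ (Q : Subgroup G) ⊓ (x • Q : Sylow 3 G) = (P : Subgroup G) ⊓ Q := by
  have h1 : Adj P (x • Q) := by
    have := (adj_smul x (P := P) (Q := Q)).mpr hA
    rwa [smul_self P hx] at this
  have h2 := adj_of_le h22 (Ne.symm hne) ((P : Subgroup G) ⊓ Q)
    (le_inf inf_le_right (adj_le_smul hA hx)) (by rw [← card_eq P Q]; exact hA)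
  exact ⟨h2.1, h1, h2.2⟩

/-- the triangle lemma: three pairwise adjacent Sylow subgroups have a common intersection -/
lemma triangle (h22 : Nat.card (Sylow 3 G) = 22) {P Q δ : Sylow 3 G} (h1 : Adj P Q)
    (h2 : Adj P δ) (h3 : Adj Q δ) : (P : Subgroup G) ⊓ Q ≤ δ := by
  by_contra hcon
  have hex : ∃ x ∈ (P : Subgroup G) ⊓ Q, x ∉ normalizer ((δ : Subgroup G) : Set G) := by
    by_contra hall
    push Not at hall
    exact hcon (le_sylow_of_le_normalizer P.2.to_inf_left δ hall)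
  obtain ⟨x, hx, hxδ⟩ := hex
  have hne : x • δ ≠ δ := fun h => hxδ (Sylow.smul_eq_iff_mem_normalizer.mp h)
  have hPδ : (P : Subgroup G) ⊓ δ ≤ ((x • δ : Sylow 3 G) : Subgroup G) := adj_le_smul h2 hx.1
  have hQδ : (Q : Subgroup G) ⊓ δ ≤ ((x • δ : Sylow 3 G) : Subgroup G) := adj_le_smul h3 hx.2
  have e1 := adj_of_le h22 (Ne.symm hne) ((P : Subgroup G) ⊓ δ) (le_inf inf_le_right hPδ)
    (by rw [← card_eq P δ]; exact h2)
  have e2 := adj_of_le h22 (Ne.symm hne) ((Q : Subgroup G) ⊓ δ) (le_inf inf_le_right hQδ)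
    (by rw [← card_eq Q δ]; exact h3)
  have e3 : (P : Subgroup G) ⊓ δ = (Q : Subgroup G) ⊓ δ := by rw [← e1.2, ← e2.2]
  have e4 : (P : Subgroup G) ⊓ δ ≤ (P : Subgroup G) ⊓ Q :=
    le_inf inf_le_left (e3 ▸ inf_le_left)
  have e5 : (P : Subgroup G) ⊓ δ = (P : Subgroup G) ⊓ Q := by
    apply Subgroup.eq_of_le_of_card_ge e4
    have a1 : Nat.card ((P : Subgroup G) ⊓ Q : Subgroup G) * 3 = Nat.card P := h1
    have a2 : Nat.card ((P : Subgroup G) ⊓ δ : Subgroup G) * 3 = Nat.card P := h2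
    omega
  exact hcon (e5 ▸ inf_le_right)

end Cfsg.Agent.Lib.Helper72.N3
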