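import Mathlib
import Cfsg.Agent.Lib.Helper1.PDStmt

set_option autoImplicit false

/-! S4020 piece QSTEP (second seat, helper72): if `P ⊓ M = ⊥` the image of the Sylow subgroup `P`
in `G ⧸ M` is a Sylow subgroup of the same order. -/

namespace Cfsg.Agent.Lib.Helper72.PDQSTEP

open Cfsg.Agent.Lib.Helper1.PDStmt

universe u

theorem main : QStep.{u} := by
  intro G _ _ M _ p _ P hPM
  have hp : p.Prime := Fact.out
  have hinj : Function.Injective ((QuotientGroup.mk' M).comp (P : Subgroup G).subtype) := by
    rw [injective_iff_map_eq_one]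
    intro x hx
    have hxM : (x : G) ∈ M := (QuotientGroup.eq_one_iff (x : G)).1 hx
    have h1 : (x : G) ∈ (P : Subgroup G) ⊓ M := ⟨x.2, hxM⟩
    rw [hPM] at h1
    exact Subtype.ext ((Subgroup.mem_bot).1 h1)
  have hrange : ((QuotientGroup.mk' M).comp (P : Subgroup G).subtype).range =
      (P : Subgroup G).map (QuotientGroup.mk' M) := by
    rw [MonoidHom.range_comp, Subgroup.range_subtype]
  have hcard : Nat.card ↥((P : Subgroup G).map (QuotientGroup.mk' M)) =
      Nat.card ↥(P : Subgroup G) := by
    rw [← hrange]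
    exact (Nat.card_congr (MonoidHom.ofInjective hinj).toEquiv).symm
  have hP : Nat.card ↥(P : Subgroup G) = p ^ (Nat.card G).factorization p :=
    P.card_eq_multiplicity
  have hG0 : Nat.card G ≠ 0 := Nat.card_pos.ne'
  have hQ0 : Nat.card (G ⧸ M) ≠ 0 := Nat.card_pos.ne'
  have hle1 : (Nat.card (G ⧸ M)).factorization p ≤ (Nat.card G).factorization p := by
    rw [← hp.pow_dvd_iff_le_factorization hG0]
    exact (Nat.ordProj_dvd _ p).trans (Subgroup.card_quotient_dvd_card M)
  have hle2 : (Nat.card G).factorization p ≤ (Nat.card (G ⧸ M)).factorization p := by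
    rw [← hp.pow_dvd_iff_le_factorization hQ0, ← hP, ← hcard]
    exact Subgroup.card_subgroup_dvd_card _
  have hfin : Nat.card ↥((P : Subgroup G).map (QuotientGroup.mk' M)) =
      p ^ (Nat.card (G ⧸ M)).factorization p := by
    rw [hcard, hP, le_antisymm hle2 hle1]
  exact ⟨Sylow.ofCard _ hfin, rfl, hcard⟩

end Cfsg.Agent.Lib.Helper72.PDQSTEP
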