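import Mathlib
import Cfsg.Agent.Lib.Helper10.PUDefs

/-!
Piece [FF3a] of S2772: two conjugates of the transvection generate `G` modulo `Q`, so a subgroup
of index at most `4` of `Ω₁ Z(Q)` is central in `G`.
-/

set_option autoImplicit false

namespace Cfsg.Agent.Lib.Helper72.PUFF3a

open Pointwise Cfsg.Agent.Lib.Helper10.SWDefs Cfsg.Agent.Lib.Helper10.PUDefs

universe u

theorem conj_smul_eq_of_mem_normalizer {H : Type u} [Group H] {S : Subgroup H} {p : H}
    (hp : p ∈ Subgroup.normalizer (S : Set H)) : MulAut.conj p • S = S := by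
  ext y
  rw [mem_conj_smul]
  have h := Subgroup.mem_normalizer_iff.1 hp (p⁻¹ * y * p)
  have e : p * (p⁻¹ * y * p) * p⁻¹ = y := by group
  rw [e] at h
  exact h

theorem mem_normalizer_of_conj_smul_eq {H : Type u} [Group H] {S : Subgroup H} {p : H}
    (hp : MulAut.conj p • S = S) : p ∈ Subgroup.normalizer (S : Set H) := by
  rw [Subgroup.mem_normalizer_iff]
  intro h
  constructor
  · intro hh
    have := conj_mem_conj_smul (g := p) hh
    rwa [hp] at this
  · intro hh
    rw [← hp, mem_conj_smul] at hh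
    have e : p⁻¹ * (p * h * p⁻¹) * p = h := by group
    rwa [e] at hh

theorem main : Cfsg.Agent.Lib.Helper10.PUDefs.StFF3a.{u} := by
  intro H _ _ G Q S x q hPU hT
  obtain ⟨a, haS, haQ, haa, C, hCW, hCi, hCa⟩ := hT
  haveI : Fact q.Prime := ⟨hPU.prime⟩
  -- an element of order `q`
  have hqG : q ∣ Nat.card G := by
    rw [hPU.cardG]
    exact Dvd.dvd.mul_right (Dvd.intro_left 2 rfl) _
  obtain ⟨d0, hd0⟩ := exists_prime_orderOf_dvd_card' q hqG
  obtain ⟨d, hdG, rfl⟩ : ∃ d : H, ∃ hd : d ∈ G, d0 = ⟨d, hd⟩ := ⟨d0.1, d0.2, rfl⟩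
  have hdq : orderOf d = q := by
    rw [← hd0]
    exact (Subgroup.orderOf_mk d hdG).symm
  have hdQ : MulAut.conj d • Q = Q := hPU.nrm d hdG
  have hdW : MulAut.conj d • OZ Q = OZ Q := by rw [← OZ_conj, hdQ]
  -- the subgroup `V₀`
  have hC'W : MulAut.conj d • C ≤ OZ Q := by
    rw [← hdW]
    exact Subgroup.pointwise_smul_le_pointwise_smul_iff.2 hCW
  have hC'i : (MulAut.conj d • C).relIndex (OZ Q) ≤ 2 := by
    have h1 := Subgroup.relIndex_pointwise_smul (MulAut.conj d) C (OZ Q)
    rw [hdW] at h1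
    rw [h1]
    exact hCi
  refine ⟨C ⊓ MulAut.conj d • C, inf_le_left.trans hCW, ?_, ?_⟩
  · calc (C ⊓ MulAut.conj d • C).relIndex (OZ Q)
        ≤ C.relIndex (OZ Q) * (MulAut.conj d • C).relIndex (OZ Q) := Subgroup.relIndex_inf_le
      _ ≤ 2 * 2 := Nat.mul_le_mul hCi hC'i
      _ = 4 := by norm_num
  · -- the centralizer of `V₀` contains `Q`, `a`, `d a d⁻¹`
    have hQZ : Q ≤ Subgroup.centralizer ((C ⊓ MulAut.conj d • C : Subgroup H) : Set H) := by
      intro s hs
      rw [Subgroup.mem_centralizer_iff]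
      intro v hv
      have hvW : v ∈ OZ Q := hCW hv.1
      exact (hvW.2.2 s hs).symm
    have haZ : a ∈ Subgroup.centralizer ((C ⊓ MulAut.conj d • C : Subgroup H) : Set H) := by
      rw [Subgroup.mem_centralizer_iff]
      intro v hv
      exact (hCa v hv.1).symm
    have ha'Z : d * a * d⁻¹ ∈
        Subgroup.centralizer ((C ⊓ MulAut.conj d • C : Subgroup H) : Set H) := by
      rw [Subgroup.mem_centralizer_iff]
      intro v hv
      have hv2 : d⁻¹ * v * d ∈ C := mem_conj_smul.1 hv.2
      have h1 := hCa _ hv2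
      calc v * (d * a * d⁻¹) = d * ((d⁻¹ * v * d) * a) * d⁻¹ := by group
        _ = d * (a * (d⁻¹ * v * d)) * d⁻¹ := by rw [h1]
        _ = d * a * d⁻¹ * v := by group
    -- `S = Q ⊔ ⟨a⟩`
    have hS' : Q ⊔ Subgroup.zpowers a = S := by
      have hle : Q ⊔ Subgroup.zpowers a ≤ S := sup_le hPU.hQS ((Subgroup.zpowers_le).2 haS)
      apply Subgroup.eq_of_le_of_card_ge hle
      have h1 : Nat.card Q ∣ Nat.card (Q ⊔ Subgroup.zpowers a : Subgroup H) :=
        Subgroup.card_dvd_of_le le_sup_left
      have h2 : Nat.card (Q ⊔ Subgroup.zpowers a : Subgroup H) ≠ Nat.card Q := by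
        intro he
        have h3 : Q = Q ⊔ Subgroup.zpowers a :=
          Subgroup.eq_of_le_of_card_ge le_sup_left (le_of_eq he)
        apply haQ
        rw [h3]
        exact (le_sup_right : Subgroup.zpowers a ≤ Q ⊔ Subgroup.zpowers a)
          (Subgroup.mem_zpowers a)
      obtain ⟨j, hj⟩ := h1
      have hQpos : 0 < Nat.card Q := Nat.card_pos
      rw [hPU.cardS, hj]
      have hj1 : j ≠ 1 := by
        rintro rfl
        rw [mul_one] at hj
        exact h2 hj
      have hj0 : j ≠ 0 := by
        rintro rfl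
        rw [mul_zero] at hj
        have : 0 < Nat.card (Q ⊔ Subgroup.zpowers a : Subgroup H) := Nat.card_pos
        omega
      have hj2 : 2 ≤ j := by omega
      calc 2 * Nat.card Q = Nat.card Q * 2 := mul_comm _ _
        _ ≤ Nat.card Q * j := Nat.mul_le_mul_left _ hj2
    -- `d a d⁻¹ ∉ S`
    obtain ⟨n, hn⟩ := IsPGroup.iff_card.1 hPU.two
    have hcop : Nat.Coprime q (Nat.card S) := by
      rw [hn]
      apply Nat.Coprime.pow_right
      rw [Nat.coprime_primes hPU.prime Nat.prime_two]
      exact hPU.odd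
    have hGS : Nat.card G = q * Nat.card S := by
      rw [hPU.cardG, hPU.cardS]
      ring
    have ha'S : d * a * d⁻¹ ∉ S := by
      intro ha'
      -- then `d` normalizes `S`
      have hdS : MulAut.conj d • S ≤ S := by
        intro y hy
        rw [mem_conj_smul, ← hS'] at hy
        have hle2 : Q ⊔ Subgroup.zpowers a ≤ MulAut.conj d⁻¹ • S := by
          refine sup_le ?_ ?_
          · intro z hz
            rw [mem_conj_smul, inv_inv]
            have h1 : d * z * d⁻¹ ∈ MulAut.conj d • Q := conj_mem_conj_smul hz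
            rw [hdQ] at h1
            exact hPU.hQS h1
          · rw [Subgroup.zpowers_le, mem_conj_smul, inv_inv]
            exact ha'
        have hmem : ∀ z ∈ Q ⊔ Subgroup.zpowers a, d * z * d⁻¹ ∈ S := by
          intro z hz
          have h1 := hle2 hz
          rwa [mem_conj_smul, inv_inv] at h1
        have h2 := hmem _ hy
        have e : d * (d⁻¹ * y * d) * d⁻¹ = y := by group
        rwa [e] at h2
      have hdS' : MulAut.conj d • S = S :=
        Subgroup.eq_of_le_of_card_ge hdS (le_of_eq (card_conj_smul d S).symm)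
      have hdN : d ∈ Subgroup.normalizer (S : Set H) := mem_normalizer_of_conj_smul_eq hdS'
      -- so `G` normalizes `S`
      have hGN : G ≤ Subgroup.normalizer (S : Set H) := by
        have hle : G ⊓ Subgroup.normalizer (S : Set H) ≤ G := inf_le_left
        have hSle : S ≤ G ⊓ Subgroup.normalizer (S : Set H) :=
          le_inf hPU.hSG Subgroup.le_normalizer
        have hdle : Subgroup.zpowers d ≤ G ⊓ Subgroup.normalizer (S : Set H) :=
          (Subgroup.zpowers_le).2 ⟨hdG, hdN⟩
        have h1 : Nat.card S ∣ Nat.card (G ⊓ Subgroup.normalizer (S : Set H) : Subgroup H) :=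
          Subgroup.card_dvd_of_le hSle
        have h2 : q ∣ Nat.card (G ⊓ Subgroup.normalizer (S : Set H) : Subgroup H) := by
          have := Subgroup.card_dvd_of_le hdle
          rwa [Nat.card_zpowers, hdq] at this
        have h3 : q * Nat.card S ∣ Nat.card (G ⊓ Subgroup.normalizer (S : Set H) : Subgroup H) :=
          Nat.Coprime.mul_dvd_of_dvd_of_dvd hcop h2 h1
        have h4 : G ⊓ Subgroup.normalizer (S : Set H) = G := by
          apply Subgroup.eq_of_le_of_card_ge hle
          rw [hGS]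
          exact Nat.le_of_dvd Nat.card_pos h3
        rw [← h4]
        exact inf_le_right
      have hNrm : Nrm G S := fun p hp => conj_smul_eq_of_mem_normalizer (hGN hp)
      exact haQ (hPU.maxQ S hPU.hSG hNrm hPU.two haS)
    -- `K = G`
    have hKG : Q ⊔ Subgroup.zpowers a ⊔ Subgroup.zpowers (d * a * d⁻¹) = G := by
      have ha'G : d * a * d⁻¹ ∈ G :=
        G.mul_mem (G.mul_mem hdG (hPU.hSG haS)) (G.inv_mem hdG)
      have hle : Q ⊔ Subgroup.zpowers a ⊔ Subgroup.zpowers (d * a * d⁻¹) ≤ G := by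
        rw [hS']
        exact sup_le hPU.hSG ((Subgroup.zpowers_le).2 ha'G)
      apply Subgroup.eq_of_le_of_card_ge hle
      rw [hS']
      have h1 : Nat.card S ∣ Nat.card (S ⊔ Subgroup.zpowers (d * a * d⁻¹) : Subgroup H) :=
        Subgroup.card_dvd_of_le le_sup_left
      have h2 : Nat.card (S ⊔ Subgroup.zpowers (d * a * d⁻¹) : Subgroup H) ∣ Nat.card G := by
        rw [hS'] at hle
        exact Subgroup.card_dvd_of_le hle
      have h3 : Nat.card (S ⊔ Subgroup.zpowers (d * a * d⁻¹) : Subgroup H) ≠ Nat.card S := by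
        intro he
        have h4 : S = S ⊔ Subgroup.zpowers (d * a * d⁻¹) :=
          Subgroup.eq_of_le_of_card_ge le_sup_left (le_of_eq he)
        apply ha'S
        rw [h4]
        exact (le_sup_right : Subgroup.zpowers (d * a * d⁻¹) ≤ S ⊔ Subgroup.zpowers (d * a * d⁻¹))
          (Subgroup.mem_zpowers _)
      obtain ⟨j, hj⟩ := h1
      rw [hj, hGS, mul_comm q] at h2
      have hSpos : 0 < Nat.card S := Nat.card_pos
      have hjq : j ∣ q := (Nat.mul_dvd_mul_iff_left hSpos).1 h2
      rcases (Nat.dvd_prime hPU.prime).1 hjq with rfl | rfl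
      · rw [mul_one] at hj
        exact absurd hj h3
      · rw [hj, hGS, mul_comm]
    intro v hv g hg
    have hgK : g ∈ Subgroup.centralizer ((C ⊓ MulAut.conj d • C : Subgroup H) : Set H) := by
      rw [← hKG] at hg
      exact (sup_le (sup_le hQZ ((Subgroup.zpowers_le).2 haZ))
        ((Subgroup.zpowers_le).2 ha'Z)) hg
    rw [Subgroup.mem_centralizer_iff] at hgK
    exact (hgK v hv).symm

end Cfsg.Agent.Lib.Helper72.PUFF3a
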