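import Mathlib
import Cfsg.Agent.Lib.Helper46.PUStmt

set_option autoImplicit false

/-!
# S2263 piece ORBCOMB: orbits of an injective self-map of a finite set
-/

namespace Cfsg.Agent.Lib.Helper72.PUORBCOMB

open Cfsg.Agent.Lib.Helper46.PUStmt

universe u

theorem main : OrbComb.{u} := by
  classical
  intro α _ E τ h1 h2
  let f : ↥E → ↥E := fun x => ⟨τ x.1, h1 x.1 x.2⟩
  have hf : Function.Injective f := by
    intro x y hxy
    have : τ x.1 = τ y.1 := congrArg Subtype.val hxy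
    exact Subtype.ext (h2 x.1 x.2 y.1 y.2 this)
  let σ : Equiv.Perm ↥E := Equiv.ofBijective f (Finite.injective_iff_bijective.mp hf)
  have hσ : ∀ x : ↥E, (σ x).1 = τ x.1 := fun x => rfl
  have hpow : ∀ (j : ℕ) (x : ↥E), ((σ ^ j) x).1 = τ^[j] x.1 := by
    intro j
    induction j with
    | zero => intro x; simp
    | succ j ih =>
      intro x
      rw [pow_succ, Equiv.Perm.mul_apply, ih, hσ, Function.iterate_succ_apply]
  let H : Subgroup (Equiv.Perm ↥E) := Subgroup.zpowers σ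
  let Q := MulAction.orbitRel.Quotient H ↥E
  let e : Q ≃ Fin (Fintype.card Q) := Fintype.equivFin Q
  let o : α → ℕ := fun x => if h : x ∈ E then (e (Quotient.mk'' ⟨x, h⟩)).val else 0
  have ho : ∀ (x : α) (h : x ∈ E), o x = (e (Quotient.mk'' ⟨x, h⟩)).val := by
    intro x h; simp only [o, dif_pos h]
  have hoeq : ∀ (x y : ↥E), o x.1 = o y.1 ↔ x ∈ MulAction.orbit H y := by
    intro x y
    rw [ho x.1 x.2, ho y.1 y.2, Fin.val_inj, e.apply_eq_iff_eq, ← MulAction.orbitRel_apply]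
    exact Quotient.eq''
  refine ⟨Fintype.card Q, fun i => (E.filter (fun x => o x = i)).card, o, ?_, ?_, ?_, ?_, ?_⟩
  · intro x hx
    rw [ho x hx]; exact Fin.is_lt _
  · intro i hi
    refine ⟨rfl, ?_⟩
    obtain ⟨x', hx'⟩ := Quotient.exists_rep (e.symm ⟨i, hi⟩)
    have hox : o x'.1 = i := by
      rw [ho x'.1 x'.2]
      have : (Quotient.mk'' ⟨x'.1, x'.2⟩ : Q) = e.symm ⟨i, hi⟩ := hx'
      rw [this]; simp
    exact Finset.card_pos.mpr ⟨x'.1, Finset.mem_filter.mpr ⟨x'.2, hox⟩⟩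
  · intro x hx
    exact (hoeq (σ ⟨x, hx⟩) ⟨x, hx⟩).mpr ⟨⟨σ, Subgroup.mem_zpowers σ⟩, rfl⟩
  · intro x hx
    have hcard : (E.filter (fun y => o y = o x)).card
        = Fintype.card (MulAction.orbit H (⟨x, hx⟩ : ↥E)) := by
      rw [← Set.toFinset_card, ← Finset.card_image_of_injective _ Subtype.val_injective]
      congr 1
      ext y
      simp only [Finset.mem_filter, Finset.mem_image, Set.mem_toFinset]
      constructor
      · rintro ⟨hy, hyo⟩
        exact ⟨⟨y, hy⟩, (hoeq ⟨y, hy⟩ ⟨x, hx⟩).mp hyo, rfl⟩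
      · rintro ⟨y', hy', rfl⟩
        exact ⟨y'.2, (hoeq y' ⟨x, hx⟩).mpr hy'⟩
    have hper := MulAction.minimalPeriod_eq_card (a := σ) (b := (⟨x, hx⟩ : ↥E))
    show τ^[(E.filter (fun y => o y = o x)).card] x = x
    rw [hcard, ← hper]
    have h3 := Function.iterate_minimalPeriod (f := ((σ • ·) : ↥E → ↥E)) (x := ⟨x, hx⟩)
    rw [smul_iterate] at h3
    have h4 := hpow (Function.minimalPeriod ((σ • ·) : ↥E → ↥E) ⟨x, hx⟩) ⟨x, hx⟩
    rw [← h4]
    exact congrArg Subtype.val h3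
  · intro x hx y hy hxy
    have hm := (hoeq ⟨y, hy⟩ ⟨x, hx⟩).mp hxy.symm
    obtain ⟨⟨g, hg⟩, hgx⟩ := hm
    have hfin : IsOfFinOrder σ := isOfFinOrder_of_finite σ
    obtain ⟨j, rfl⟩ := (hfin.mem_powers_iff_mem_zpowers).mpr hg
    refine ⟨j, ?_⟩
    rw [← hpow j ⟨x, hx⟩]
    exact (congrArg Subtype.val hgx).symm

end Cfsg.Agent.Lib.Helper72.PUORBCOMB
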