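import Mathlib
import Cfsg.Agent.Lib.Helper23.S69Stmt

set_option autoImplicit false

/-!
# S1369 piece PRIMESUB: a subgroup of prime order of a cyclic `A ⊔ B` lies in `A` or in `B`
-/

namespace Cfsg.Agent.Lib.Helper72.S69PRIMESUB

open Cfsg Cfsg.Agent.Lib.Helper23.S69Stmt Cfsg.Agent.Lib.Helper54.S68Stmt

universe u

/-- if `A` normalizes `B` then every element of `A ⊔ B` is `b * a` -/
theorem exists_mul_of_mem_sup'' {G : Type u} [Group G] (A B : Subgroup G)
    (hconj : ∀ a ∈ A, ∀ b ∈ B, a * b * a⁻¹ ∈ B) (m : G) (hm : m ∈ A ⊔ B) :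
    ∃ b ∈ B, ∃ a ∈ A, m = b * a := by
  let S : Subgroup G :=
    { carrier := {m | ∃ b ∈ B, ∃ a ∈ A, m = b * a}
      one_mem' := ⟨1, B.one_mem, 1, A.one_mem, by simp⟩
      mul_mem' := by
        rintro _ _ ⟨b1, hb1, a1, ha1, rfl⟩ ⟨b2, hb2, a2, ha2, rfl⟩
        exact ⟨b1 * (a1 * b2 * a1⁻¹), B.mul_mem hb1 (hconj a1 ha1 b2 hb2), a1 * a2,
          A.mul_mem ha1 ha2, by group⟩
      inv_mem' := by
        rintro _ ⟨b, hb, a, ha, rfl⟩
        exact ⟨a⁻¹ * b⁻¹ * a⁻¹⁻¹, hconj a⁻¹ (A.inv_mem ha) b⁻¹ (B.inv_mem hb), a⁻¹,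
          A.inv_mem ha, by group⟩ }
  have hA : A ≤ S := fun a ha => ⟨1, B.one_mem, a, ha, by simp⟩
  have hB : B ≤ S := fun b hb => ⟨b, hb, 1, A.one_mem, by simp⟩
  exact (sup_le hA hB) hm

/-- elements of a cyclic subgroup commute -/
theorem commute_of_isCyclic' {G : Type u} [Group G] (K : Subgroup G) (hK : IsCyclic K) (a b : G)
    (ha : a ∈ K) (hb : b ∈ K) : a * b = b * a := by
  obtain ⟨g, hg⟩ := hK.exists_generator
  obtain ⟨i, hi⟩ := Subgroup.mem_zpowers_iff.mp (hg ⟨a, ha⟩)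
  obtain ⟨j, hj⟩ := Subgroup.mem_zpowers_iff.mp (hg ⟨b, hb⟩)
  have h1 : (g : G) ^ i = a := by
    have := congrArg Subtype.val hi
    simpa using this
  have h2 : (g : G) ^ j = b := by
    have := congrArg Subtype.val hj
    simpa using this
  rw [← h1, ← h2]
  exact ((Commute.refl (g : G)).zpow_zpow i j).eq

/-- two powers of `a` of the same order generate the same subgroup -/
theorem pow_mem_zpowers_of_orderOf_eq' {G : Type u} [Group G] [Finite G] (a : G) (e e' : ℕ)
    (h : orderOf (a ^ e) = orderOf (a ^ e')) : a ^ e ∈ Subgroup.zpowers (a ^ e') := by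
  have hn : 0 < orderOf a := orderOf_pos a
  have h1 : orderOf (a ^ e) = orderOf a / Nat.gcd (orderOf a) e := orderOf_pow a
  have h2 : orderOf (a ^ e') = orderOf a / Nat.gcd (orderOf a) e' := orderOf_pow a
  have hd1 := Nat.gcd_dvd_left (orderOf a) e
  have hd2 := Nat.gcd_dvd_left (orderOf a) e'
  have hg : Nat.gcd (orderOf a) e = Nat.gcd (orderOf a) e' := by
    rw [h1, h2] at h
    have hm : 0 < orderOf a / Nat.gcd (orderOf a) e' :=
      Nat.div_pos (Nat.le_of_dvd hn hd2) (Nat.gcd_pos_of_pos_left _ hn)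
    have e1 := Nat.mul_div_cancel' hd1
    have e2 := Nat.mul_div_cancel' hd2
    rw [h] at e1
    exact Nat.eq_of_mul_eq_mul_right hm (e1.trans e2.symm)
  obtain ⟨t, ht⟩ : Nat.gcd (orderOf a) e' ∣ e := hg ▸ Nat.gcd_dvd_right (orderOf a) e
  have hb := Nat.gcd_eq_gcd_ab (orderOf a) e'
  have h3 : a ^ (Nat.gcd (orderOf a) e') = (a ^ e') ^ (Nat.gcdB (orderOf a) e') := by
    rw [← zpow_natCast a (Nat.gcd (orderOf a) e'), hb, zpow_add, zpow_mul, zpow_mul,
      zpow_natCast, zpow_natCast, pow_orderOf_eq_one, one_zpow, one_mul]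
  rw [ht, pow_mul, h3]
  exact Subgroup.pow_mem _ (Subgroup.zpow_mem _ (Subgroup.mem_zpowers _) _) _

/-- in a cyclic subgroup, an element lies in the subgroup generated by any element of the same
order -/
theorem mem_zpowers_of_orderOf_eq_of_isCyclic {G : Type u} [Group G] [Finite G] (C : Subgroup G)
    (hC : IsCyclic C) (y x' : G) (hy : y ∈ C) (hx' : x' ∈ C) (h : orderOf y = orderOf x') :
    y ∈ Subgroup.zpowers x' := by
  obtain ⟨g, hg⟩ := hC.exists_generator
  have hnat : ∀ w : G, w ∈ C → ∃ e : ℕ, (g : G) ^ e = w := by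
    intro w hw
    have h1 : (⟨w, hw⟩ : C) ∈ Submonoid.powers g := mem_powers_iff_mem_zpowers.mpr (hg ⟨w, hw⟩)
    obtain ⟨e, he⟩ := h1
    refine ⟨e, ?_⟩
    have := congrArg Subtype.val he
    simpa using this
  obtain ⟨e, rfl⟩ := hnat y hy
  obtain ⟨e', rfl⟩ := hnat x' hx'
  exact pow_mem_zpowers_of_orderOf_eq' (g : G) e e' h

theorem main : PrimeSub.{u} := by
  intro G _ _ A B X hcyc hX hp
  -- `p` divides `|A|` or `|B|`
  have hdvd : Nat.card X ∣ Nat.card A ∨ Nat.card X ∣ Nat.card B := by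
    haveI : Nontrivial X := by
      rw [← Finite.one_lt_card_iff_nontrivial]; exact hp.one_lt
    obtain ⟨x, hx1⟩ := exists_ne (1 : X)
    have hxo : orderOf (x : G) = Nat.card X := by
      have h1 : orderOf (x : G) ∣ Nat.card X := Subgroup.orderOf_dvd_natCard X x.2
      rcases (Nat.dvd_prime hp).mp h1 with h | h
      · exfalso
        apply hx1
        have : (x : G) = 1 := orderOf_eq_one_iff.mp h
        exact Subtype.ext this
      · exact h
    obtain ⟨b, hb, a, ha, hxe⟩ := exists_mul_of_mem_sup'' A B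
      (fun a ha b hb => by
        have hc : a * b = b * a :=
          commute_of_isCyclic' (A ⊔ B) hcyc a b (le_sup_left (a := A) ha) (le_sup_right (b := B) hb)
        rw [hc, mul_inv_cancel_right]; exact hb) (x : G) (hX x.2)
    have hc : Commute b a :=
      commute_of_isCyclic' (A ⊔ B) hcyc b a (le_sup_right (b := B) hb) (le_sup_left (a := A) ha)
    have hpow : (x : G) ^ (Nat.card A * Nat.card B) = 1 := by
      have ha1 : a ^ Nat.card A = 1 :=
        orderOf_dvd_iff_pow_eq_one.mp (Subgroup.orderOf_dvd_natCard A ha)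
      have hb1 : b ^ Nat.card B = 1 :=
        orderOf_dvd_iff_pow_eq_one.mp (Subgroup.orderOf_dvd_natCard B hb)
      rw [hxe, hc.mul_pow]
      have e1 : b ^ (Nat.card A * Nat.card B) = 1 := by
        rw [mul_comm, pow_mul, hb1, one_pow]
      have e2 : a ^ (Nat.card A * Nat.card B) = 1 := by
        rw [pow_mul, ha1, one_pow]
      rw [e1, e2, one_mul]
    have h2 : Nat.card X ∣ Nat.card A * Nat.card B := by
      rw [← hxo]; exact orderOf_dvd_of_pow_eq_one hpow
    exact (hp.dvd_mul).mp h2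
  have key : ∀ D : Subgroup G, D ≤ A ⊔ B → Nat.card X ∣ Nat.card D → X ≤ D := by
    intro D hD hd
    haveI : Fact (Nat.card X).Prime := ⟨hp⟩
    obtain ⟨x', hx'⟩ := exists_prime_orderOf_dvd_card' (G := ↥D) (Nat.card X) hd
    have hx'o : orderOf (x' : G) = Nat.card X := by rw [Subgroup.orderOf_coe]; exact hx'
    intro y hy
    by_cases hy1 : y = 1
    · rw [hy1]; exact D.one_mem
    · have hyo : orderOf y = Nat.card X := by
        have h1 : orderOf y ∣ Nat.card X := Subgroup.orderOf_dvd_natCard X hy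
        rcases (Nat.dvd_prime hp).mp h1 with h | h
        · exact absurd (orderOf_eq_one_iff.mp h) hy1
        · exact h
      have hmem := mem_zpowers_of_orderOf_eq_of_isCyclic (A ⊔ B) hcyc y (x' : G) (hX hy)
        (hD x'.2) (hyo.trans hx'o.symm)
      exact (Subgroup.zpowers_le.mpr x'.2) hmem
  rcases hdvd with h | h
  · exact Or.inl (key A le_sup_left h)
  · exact Or.inr (key B le_sup_right h)

end Cfsg.Agent.Lib.Helper72.S69PRIMESUB
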