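import Mathlib
import Cfsg.Agent.Lib.Helper83.SgStmt

/-!
Piece [CONJ] of S5072: conjugation of a Siegel transvection group by an isometry.
-/

set_option autoImplicit false
open Matrix

namespace Cfsg.Agent.Lib.Helper72.SgCONJ

open Cfsg Cfsg.Agent.Lib.Helper83.SgStmt

universe u

variable {m : ℕ} {F : Type u} [Field F]

theorem Q_act (g : OG m F) (v : Vec m F) :
    Cfsg.quadFormPlus (m + 3) F (act m F g v) = Cfsg.quadFormPlus (m + 3) F v :=
  g.2 v v

theorem act_add (g : OG m F) (v w : Vec m F) :
    act m F g (v + w) = act m F g v + act m F g w :=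
  Matrix.mulVec_add _ _ _

theorem act_smul (g : OG m F) (c : F) (v : Vec m F) :
    act m F g (c • v) = c • act m F g v :=
  Matrix.mulVec_smul _ _ _

theorem act_mul (g h : OG m F) (v : Vec m F) :
    act m F (g * h) v = act m F g (act m F h v) := by
  unfold act
  rw [Subgroup.coe_mul, Units.val_mul, Matrix.mulVec_mulVec]

theorem act_one (v : Vec m F) : act m F (1 : OG m F) v = v := by
  unfold act
  rw [Subgroup.coe_one, Units.val_one, Matrix.one_mulVec]

theorem act_inv_act (g : OG m F) (v : Vec m F) : act m F g⁻¹ (act m F g v) = v := by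
  rw [← act_mul, inv_mul_cancel, act_one]

theorem act_act_inv (g : OG m F) (v : Vec m F) : act m F g (act m F g⁻¹ v) = v := by
  rw [← act_mul, mul_inv_cancel, act_one]

theorem bp_act (g : OG m F) (v w : Vec m F) :
    bp m F (act m F g v) (act m F g w) = bp m F v w := by
  unfold bp
  rw [← act_add, Q_act, Q_act, Q_act]

theorem Sg_eq (p r : Vec m F) :
    Sg m F p r = Subgroup.closure {σ : OG m F |
      ∀ v : Vec m F, bp m F v p = 0 → bp m F v r = 0 → act m F σ v = v} := rfl

theorem conj_gen (g σ : OG m F) (p r : Vec m F)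
    (hσ : ∀ v : Vec m F, bp m F v p = 0 → bp m F v r = 0 → act m F σ v = v) :
    ∀ v : Vec m F, bp m F v (act m F g p) = 0 → bp m F v (act m F g r) = 0 →
      act m F (g * σ * g⁻¹) v = v := by
  intro v h1 h2
  have e1 : bp m F (act m F g⁻¹ v) p = 0 := by
    rw [← bp_act g, act_act_inv]
    exact h1
  have e2 : bp m F (act m F g⁻¹ v) r = 0 := by
    rw [← bp_act g, act_act_inv]
    exact h2
  rw [act_mul, act_mul, hσ _ e1 e2, act_act_inv]

theorem main : Cfsg.Agent.Lib.Helper83.SgStmt.CONJ.{u} := by
  intro m F _ p r hl g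
  obtain ⟨hli, hp, hr, hpr⟩ := hl
  refine ⟨⟨?_, ?_, ?_, ?_⟩, ?_⟩
  · rw [LinearIndependent.pair_iff] at hli ⊢
    intro s t hst
    apply hli s t
    have h1 : act m F g (s • p + t • r) = 0 := by
      rw [act_add, act_smul, act_smul]
      exact hst
    have h2 := congrArg (act m F g⁻¹) h1
    rw [act_inv_act] at h2
    rw [h2]
    unfold act
    exact Matrix.mulVec_zero _
  · rw [Q_act]; exact hp
  · rw [Q_act]; exact hr
  · rw [← act_add, Q_act]; exact hpr
  · show (Sg m F p r).map (MulAut.conj g).toMonoidHom = Sg m F (act m F g p) (act m F g r)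
    rw [Sg_eq, Sg_eq, MonoidHom.map_closure]
    congr 1
    ext x
    constructor
    · rintro ⟨σ, hσ, rfl⟩
      exact conj_gen g σ p r hσ
    · intro hx
      refine ⟨g⁻¹ * x * g, ?_, ?_⟩
      · have h := conj_gen g⁻¹ x (act m F g p) (act m F g r) hx
        rw [act_inv_act, act_inv_act, inv_inv] at h
        exact h
      · show g * (g⁻¹ * x * g) * g⁻¹ = x
        group

end Cfsg.Agent.Lib.Helper72.SgCONJ
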