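import Mathlib
import Cfsg.Agent.Lib.Helper83.SgStmt

/-!
Piece [NORM] of S5072: normal forms for a pair of singular lines.
-/

set_option autoImplicit false
open Matrix

namespace Cfsg.Agent.Lib.Helper72.SgNORM

open Cfsg Cfsg.Agent.Lib.Helper83.SgStmt

universe u

variable {m : ℕ} {F : Type u} [Field F]

theorem bp_eq (v w : Vec m F) :
    bp m F v w = ∑ i : Fin (m + 3), (v (.inl i) * w (.inr i) + w (.inl i) * v (.inr i)) := by
  unfold bp Cfsg.quadFormPlus
  rw [← Finset.sum_sub_distrib, ← Finset.sum_sub_distrib]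
  apply Finset.sum_congr rfl
  intro i _
  simp only [Pi.add_apply]
  ring

theorem bp_comm (v w : Vec m F) : bp m F v w = bp m F w v := by
  rw [bp_eq, bp_eq]
  apply Finset.sum_congr rfl
  intro i _
  ring

theorem bp_lin_left (a b : F) (x y z : Vec m F) :
    bp m F (a • x + b • y) z = a * bp m F x z + b * bp m F y z := by
  rw [bp_eq, bp_eq, bp_eq, Finset.mul_sum, Finset.mul_sum, ← Finset.sum_add_distrib]
  apply Finset.sum_congr rfl
  intro i _
  simp only [Pi.add_apply, Pi.smul_apply, smul_eq_mul]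
  ring

theorem bp_lin_right (a b : F) (x y z : Vec m F) :
    bp m F z (a • x + b • y) = a * bp m F z x + b * bp m F z y := by
  rw [bp_comm, bp_lin_left, bp_comm x, bp_comm y]

theorem bp_smul_left (a : F) (x z : Vec m F) : bp m F (a • x) z = a * bp m F x z := by
  rw [bp_eq, bp_eq, Finset.mul_sum]
  apply Finset.sum_congr rfl
  intro i _
  simp only [Pi.smul_apply, smul_eq_mul]
  ring

theorem Q_lin (a b : F) (p r : Vec m F) :
    Cfsg.quadFormPlus (m + 3) F (a • p + b • r) =
      a * a * Cfsg.quadFormPlus (m + 3) F p + b * b * Cfsg.quadFormPlus (m + 3) F r +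
        a * b * bp m F p r := by
  rw [bp_eq]
  unfold Cfsg.quadFormPlus
  rw [Finset.mul_sum, Finset.mul_sum, Finset.mul_sum, ← Finset.sum_add_distrib,
    ← Finset.sum_add_distrib]
  apply Finset.sum_congr rfl
  intro i _
  simp only [Pi.add_apply, Pi.smul_apply, smul_eq_mul]
  ring

theorem bp_of_line {p r : Vec m F} (h : IsLine m F p r) : bp m F p r = 0 := by
  obtain ⟨-, hp, hr, hpr⟩ := h
  unfold bp
  rw [hpr, hp, hr]
  ring

theorem Q_zero_of_mem {p r : Vec m F} (h : IsLine m F p r) {z : Vec m F}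
    (hz : z ∈ Submodule.span F ({p, r} : Set (Vec m F))) :
    Cfsg.quadFormPlus (m + 3) F z = 0 := by
  obtain ⟨a, b, rfl⟩ := Submodule.mem_span_pair.1 hz
  rw [Q_lin, bp_of_line h, h.2.1, h.2.2.1]
  ring

theorem isLine_of_span_eq {p r x y : Vec m F} (h : IsLine m F p r)
    (hs : Submodule.span F ({x, y} : Set (Vec m F)) = Submodule.span F {p, r}) :
    IsLine m F x y := by
  have hx : x ∈ Submodule.span F ({p, r} : Set (Vec m F)) := by
    rw [← hs]; exact Submodule.subset_span (by simp)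
  have hy : y ∈ Submodule.span F ({p, r} : Set (Vec m F)) := by
    rw [← hs]; exact Submodule.subset_span (by simp)
  refine ⟨?_, Q_zero_of_mem h hx, Q_zero_of_mem h hy, Q_zero_of_mem h (add_mem hx hy)⟩
  have h1 := h.1
  rw [linearIndependent_iff_card_eq_finrank_span] at h1 ⊢
  have e1 : Set.range ![x, y] = ({x, y} : Set (Vec m F)) := by
    simp [Matrix.range_cons, Set.pair_comm]
  have e2 : Set.range ![p, r] = ({p, r} : Set (Vec m F)) := by
    simp [Matrix.range_cons, Set.pair_comm]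
  rw [h1]
  unfold Set.finrank
  rw [e1, e2, hs]

theorem span_pair_eq {p r x y : Vec m F}
    (hx : x ∈ Submodule.span F ({p, r} : Set (Vec m F)))
    (hy : y ∈ Submodule.span F ({p, r} : Set (Vec m F)))
    (hp : p ∈ Submodule.span F ({x, y} : Set (Vec m F)))
    (hr : r ∈ Submodule.span F ({x, y} : Set (Vec m F))) :
    Submodule.span F ({x, y} : Set (Vec m F)) = Submodule.span F {p, r} := by
  apply le_antisymm
  · apply Submodule.span_le.2
    rintro z (rfl | rfl)
    · exact hx
    · exact hy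
  · apply Submodule.span_le.2
    rintro z (rfl | rfl)
    · exact hp
    · exact hr

/-- the two rank one alternatives -/
def Alt (p r p' r' : Vec m F) : Prop :=
  (∃ p₁ r₁ r₁' : Vec m F, IsLine m F p₁ r₁ ∧ IsLine m F p₁ r₁' ∧
    Submodule.span F {p₁, r₁} = Submodule.span F {p, r} ∧
    Submodule.span F {p₁, r₁'} = Submodule.span F {p', r'}) ∨
  (∃ p₁ r₁ p₁' r₁' : Vec m F, IsLine m F p₁ r₁ ∧ IsLine m F p₁' r₁' ∧
    Submodule.span F {p₁, r₁} = Submodule.span F {p, r} ∧
    Submodule.span F {p₁', r₁'} = Submodule.span F {p', r'} ∧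
    bp m F p₁ p₁' = 0 ∧ bp m F p₁ r₁' = 0 ∧ bp m F r₁ p₁' = 0 ∧ bp m F r₁ r₁' = 1 ∧
    LinearIndependent F ![p₁, p₁'])

theorem core (p r p' r' : Vec m F) (hl : IsLine m F p r) (hl' : IsLine m F p' r')
    (hd : bp m F r r' ≠ 0)
    (hdet : bp m F p p' * bp m F r r' - bp m F p r' * bp m F r p' = 0) :
    Alt p r p' r' := by
  obtain ⟨a, ha⟩ : ∃ a : F, a = bp m F p p' := ⟨_, rfl⟩
  obtain ⟨b, hb⟩ : ∃ b : F, b = bp m F p r' := ⟨_, rfl⟩
  obtain ⟨c, hc⟩ : ∃ c : F, c = bp m F r p' := ⟨_, rfl⟩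
  obtain ⟨d, hdd⟩ : ∃ d : F, d = bp m F r r' := ⟨_, rfl⟩
  rw [← ha, ← hb, ← hc, ← hdd] at hdet
  rw [← hdd] at hd
  obtain ⟨p₁, hp₁⟩ : ∃ p₁ : Vec m F, p₁ = d • p + (-b) • r := ⟨_, rfl⟩
  obtain ⟨r₁, hr₁⟩ : ∃ r₁ : Vec m F, r₁ = (0 : F) • p + d⁻¹ • r := ⟨_, rfl⟩
  obtain ⟨p₁', hp₁'⟩ : ∃ p₁' : Vec m F, p₁' = d • p' + (-c) • r' := ⟨_, rfl⟩
  have S1 : Submodule.span F ({p₁, r₁} : Set (Vec m F)) = Submodule.span F {p, r} := by
    apply span_pair_eq
    · exact Submodule.mem_span_pair.2 ⟨d, -b, hp₁.symm⟩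
    · exact Submodule.mem_span_pair.2 ⟨0, d⁻¹, hr₁.symm⟩
    · refine Submodule.mem_span_pair.2 ⟨d⁻¹, b, ?_⟩
      rw [hp₁, hr₁]
      ext i
      simp only [Pi.add_apply, Pi.smul_apply, smul_eq_mul]
      field_simp
      ring
    · refine Submodule.mem_span_pair.2 ⟨0, d, ?_⟩
      rw [hr₁]
      ext i
      simp only [Pi.add_apply, Pi.smul_apply, smul_eq_mul]
      field_simp
      ring
  have S2 : Submodule.span F ({p₁', r'} : Set (Vec m F)) = Submodule.span F {p', r'} := by
    apply span_pair_eq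
    · exact Submodule.mem_span_pair.2 ⟨d, -c, hp₁'.symm⟩
    · exact Submodule.subset_span (by simp)
    · refine Submodule.mem_span_pair.2 ⟨d⁻¹, d⁻¹ * c, ?_⟩
      rw [hp₁']
      ext i
      simp only [Pi.add_apply, Pi.smul_apply, smul_eq_mul]
      field_simp
      ring
    · exact Submodule.subset_span (by simp)
  have L1 : IsLine m F p₁ r₁ := isLine_of_span_eq hl S1
  have L2 : IsLine m F p₁' r' := isLine_of_span_eq hl' S2
  have B1 : bp m F p₁ p' = 0 := by
    rw [hp₁, bp_lin_left, ← ha, ← hc]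
    linear_combination hdet
  have B2 : bp m F p₁ r' = 0 := by
    rw [hp₁, bp_lin_left, ← hb, ← hdd]
    ring
  have B3 : bp m F p₁ p₁' = 0 := by
    rw [hp₁', bp_lin_right, B1, B2]
    ring
  have B4 : bp m F r₁ p₁' = 0 := by
    rw [hp₁', hr₁, bp_lin_right, bp_lin_left, bp_lin_left, ← ha, ← hb, ← hc, ← hdd]
    field_simp
    ring
  have B5 : bp m F r₁ r' = 1 := by
    rw [hr₁, bp_lin_left, ← hb, ← hdd]
    field_simp
    ring
  by_cases hli : LinearIndependent F ![p₁, p₁']
  · exact Or.inr ⟨p₁, r₁, p₁', r', L1, L2, S1, S2, B3, B2, B4, B5, hli⟩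
  · left
    rw [LinearIndependent.pair_iff] at hli
    push Not at hli
    obtain ⟨s, t, hst, hne⟩ := hli
    have hp₁0 : p₁ ≠ 0 := L1.1.ne_zero 0
    have hp₁'0 : p₁' ≠ 0 := L2.1.ne_zero 0
    have hs : s ≠ 0 := by
      intro hs
      rw [hs, zero_smul, zero_add] at hst
      exact hne hs ((smul_eq_zero.1 hst).resolve_right hp₁'0)
    have ht : t ≠ 0 := by
      intro ht
      rw [ht, zero_smul, add_zero] at hst
      exact hs ((smul_eq_zero.1 hst).resolve_right hp₁0)
    have e1 : p₁ = (-(s⁻¹ * t)) • p₁' := by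
      have : s • p₁ = -(t • p₁') := eq_neg_of_add_eq_zero_left hst
      calc p₁ = s⁻¹ • (s • p₁) := by rw [smul_smul, inv_mul_cancel₀ hs, one_smul]
        _ = (-(s⁻¹ * t)) • p₁' := by rw [this, smul_neg, smul_smul, neg_smul]
    have e2 : p₁' = (-(t⁻¹ * s)) • p₁ := by
      have : t • p₁' = -(s • p₁) := eq_neg_of_add_eq_zero_right hst
      calc p₁' = t⁻¹ • (t • p₁') := by rw [smul_smul, inv_mul_cancel₀ ht, one_smul]
        _ = (-(t⁻¹ * s)) • p₁ := by rw [this, smul_neg, smul_smul, neg_smul]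
    have S3 : Submodule.span F ({p₁, r'} : Set (Vec m F)) = Submodule.span F {p₁', r'} := by
      apply span_pair_eq
      · refine Submodule.mem_span_pair.2 ⟨-(s⁻¹ * t), 0, ?_⟩
        rw [zero_smul, add_zero]
        exact e1.symm
      · exact Submodule.subset_span (by simp)
      · refine Submodule.mem_span_pair.2 ⟨-(t⁻¹ * s), 0, ?_⟩
        rw [zero_smul, add_zero]
        exact e2.symm
      · exact Submodule.subset_span (by simp)
    exact ⟨p₁, r₁, r', L1, isLine_of_span_eq hl' (S3.trans S2), S1, S3.trans S2⟩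

theorem isLine_swap {p r : Vec m F} (h : IsLine m F p r) : IsLine m F r p :=
  isLine_of_span_eq h (by rw [Set.pair_comm])

theorem main : Cfsg.Agent.Lib.Helper83.SgStmt.NORM.{u} := by
  intro m F _ p r p' r' hl hl'
  by_cases h0 : bp m F p p' = 0 ∧ bp m F p r' = 0 ∧ bp m F r p' = 0 ∧ bp m F r r' = 0
  · exact Or.inl h0
  by_cases hdet : bp m F p p' * bp m F r r' - bp m F p r' * bp m F r p' = 0
  swap
  · exact Or.inr (Or.inl hdet)
  right; right
  have key : Alt p r p' r' := by
    by_cases hd : bp m F r r' = 0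
    · by_cases hc : bp m F r p' = 0
      · by_cases hb : bp m F p r' = 0
        · have ha : bp m F p p' ≠ 0 := fun ha => h0 ⟨ha, hb, hc, hd⟩
          have h := core r p r' p' (isLine_swap hl) (isLine_swap hl') ha
            (by linear_combination hdet)
          unfold Alt at h ⊢
          rw [Set.pair_comm r p, Set.pair_comm r' p'] at h
          exact h
        · have h := core r p p' r' (isLine_swap hl) hl' hb (by linear_combination -hdet)
          unfold Alt at h ⊢
          rw [Set.pair_comm r p] at h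
          exact h
      · have h := core p r r' p' hl (isLine_swap hl') hc (by linear_combination -hdet)
        unfold Alt at h ⊢
        rw [Set.pair_comm r' p'] at h
        exact h
    · exact core p r p' r' hl hl' hd hdet
  exact key

end Cfsg.Agent.Lib.Helper72.SgNORM
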